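import Groth.Agent.FlatCrit65.Assassin.Points
import Groth.Agent.FlatMor67.FlatAtBC
import Mathlib.RingTheory.Etale.Basic
import Mathlib.RingTheory.QuasiFinite.Basic
import Mathlib.RingTheory.Unramified.LocalRing

/-!
# Associated points of fibres under base change and etale maps
-/

set_option autoImplicit false
set_option linter.style.haveILetI false

universe u

noncomputable section

open TensorProduct

attribute [local instance] Algebra.TensorProduct.rightAlgebra

namespace Groth.Agent.FlatCrit65.Purity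

open Groth.Agent.FlatMor67

section Coords

variable {R S : Type u} [CommRing R] [CommRing S] [Algebra R S]
  {N : Type u} [AddCommGroup N] [Module S N] [Module R N] [IsScalarTower R S N]
  {k K : Type u} [Field k] [Field K] [Algebra R k] [Algebra R K]

/-- An element of `N ⊗ K` is a combination of finitely many images of elements of `N ⊗ k`. -/
theorem exists_coords (χ : k →ₐ[R] K) (z : N ⊗[R] K) :
    ∃ (m : ℕ) (T : Fin m → (N ⊗[R] K →ₗ[S] N ⊗[R] k)) (U : Fin m → (N ⊗[R] k →ₗ[S] N ⊗[R] K)),
      ∑ i, U i (T i z) = z := by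
  classical
  letI : Algebra k K := χ.toRingHom.toAlgebra
  haveI : IsScalarTower R k K := IsScalarTower.of_algebraMap_eq fun r => (χ.commutes r).symm
  obtain ⟨F, hF⟩ := TensorProduct.exists_finset z
  let W : Submodule k K := Submodule.span k ((F.image Prod.snd : Finset K) : Set K)
  haveI : FiniteDimensional k W := FiniteDimensional.span_finset k _
  let b := Module.finBasis k W
  obtain ⟨π, hπ⟩ := LinearMap.exists_leftInverse_of_injective W.subtype W.ker_subtype
  let φ : Fin (Module.finrank k W) → (K →ₗ[R] k) := fun i => ((b.coord i).comp π).restrictScalars R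
  let e : Fin (Module.finrank k W) → (k →ₗ[R] K) := fun i =>
    (LinearMap.toSpanSingleton k K (b i : K)).restrictScalars R
  refine ⟨_, fun i => TensorProduct.AlgebraTensorModule.lTensor S N (φ i),
    fun i => TensorProduct.AlgebraTensorModule.lTensor S N (e i), ?_⟩
  have hfix : ∀ x ∈ W, ∑ i, e i (φ i x) = x := fun x hx => by
    have h1 : π x = ⟨x, hx⟩ := LinearMap.congr_fun hπ ⟨x, hx⟩
    show ∑ i, (b.coord i (π x)) • (b i : K) = x
    rw [h1]
    have h2 := congrArg Subtype.val (b.sum_repr ⟨x, hx⟩)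
    simp only [Submodule.coe_sum, Submodule.coe_smul] at h2
    exact h2
  rw [hF]
  simp only [map_sum, TensorProduct.AlgebraTensorModule.lTensor_tmul]
  rw [Finset.sum_comm]
  refine Finset.sum_congr rfl fun a ha => ?_
  rw [← tmul_sum, hfix a.2 (Submodule.subset_span (Finset.mem_image_of_mem _ ha))]

/-- `N ⊗ k` injects in `N ⊗ K`. -/
theorem lTensor_injective (χ : k →ₐ[R] K) : Function.Injective (χ.toLinearMap.lTensor N) := by
  letI : Algebra k K := χ.toRingHom.toAlgebra
  haveI : IsScalarTower R k K := IsScalarTower.of_algebraMap_eq fun r => (χ.commutes r).symm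
  obtain ⟨g, hg⟩ := LinearMap.exists_leftInverse_of_injective (Algebra.linearMap k K)
    (LinearMap.ker_eq_bot.2 χ.toRingHom.injective)
  have hg' : (g.restrictScalars R).comp χ.toLinearMap = LinearMap.id :=
    LinearMap.ext fun x => LinearMap.congr_fun hg x
  refine Function.LeftInverse.injective (g := (g.restrictScalars R).lTensor N) fun z => ?_
  rw [← LinearMap.comp_apply, ← LinearMap.lTensor_comp, hg', LinearMap.lTensor_id, LinearMap.id_apply]

end Coords

section BaseChange

variable {R S R' S' : Type u} [CommRing R] [CommRing S] [CommRing R'] [CommRing S']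
  [Algebra R S] [Algebra R R'] [Algebra S S'] [Algebra R' S'] [Algebra R S'] [IsScalarTower R S S']
  [IsScalarTower R R' S'] [Algebra.IsPushout R S R' S']
  {M M' : Type u} [AddCommGroup M] [Module S M] [Module R M] [IsScalarTower R S M]
  [AddCommGroup M'] [Module S' M'] [Module R' M'] [IsScalarTower R' S' M'] [Module S M'] [IsScalarTower S S' M']

/-- The fibre of a base change is `M ⊗ κ(t')`, linearly over the old ring. -/
theorem exists_fibre_equiv (f : M →ₗ[S] M') (hf : IsBaseChange S' f) (t' : Ideal R') [t'.IsPrime] :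
    ∃ c : M ⊗[R] t'.ResidueField ≃+ M' ⊗[R'] t'.ResidueField,
      (∀ (m : M) (x : t'.ResidueField), c (m ⊗ₜ x) = f m ⊗ₜ x) ∧
      ∀ (s : S) (z : M ⊗[R] t'.ResidueField), c (s • z) = algebraMap S S' s • c z := by
  obtain ⟨c, hc⟩ := FlatAtBC.exists_tensor_equiv (R := R) (R' := R') f hf t'.ResidueField
  refine ⟨c, hc, fun s z => ?_⟩
  induction z using TensorProduct.induction_on with
  | zero => simp
  | add a b ha hb => simp only [smul_add, map_add, ha, hb]
  | tmul m x => rw [smul_tmul', hc, hc, smul_tmul', map_smul, algebraMap_smul]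

/-- The image of a point associated to a fibre after base change is associated to the fibre. -/
theorem ass_down (f : M →ₗ[S] M') (hf : IsBaseChange S' f) (t' : Ideal R') [t'.IsPrime] (t : Ideal R) [t.IsPrime]
    [t'.LiesOver t] (Q : Ideal S') [Q.IsPrime] [Q.LiesOver t']
    (h : FlatCA.fiberIdeal t' Q ∈ associatedPrimes (t'.Fiber S') (FlatCA.fiberMod t' S' M')) :
    (Q.comap (algebraMap S S')).LiesOver t ∧
      FlatCA.fiberIdeal t (Q.comap (algebraMap S S')) ∈ associatedPrimes (t.Fiber S) (FlatCA.fiberMod t S M) := by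
  classical
  have hlo : (Q.comap (algebraMap S S')).LiesOver t := ⟨by
    rw [Ideal.under, Ideal.comap_comap, ← IsScalarTower.algebraMap_eq, IsScalarTower.algebraMap_eq R R' S',
      ← Ideal.comap_comap]
    exact (Ideal.over_def t' t).trans (congrArg (Ideal.comap (algebraMap R R')) (Ideal.over_def Q t'))⟩
  refine ⟨hlo, (PurePush.ass_fiber_iff t _).mpr ?_⟩
  obtain ⟨y, hy⟩ := (PurePush.ass_fiber_iff t' Q).mp h
  obtain ⟨c, hc, hcs⟩ := exists_fibre_equiv (R := R) f hf t'
  let χ : t.ResidueField →ₐ[R] t'.ResidueField :=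
    Ideal.ResidueField.mapₐ t t' (Algebra.ofId R R') (Ideal.over_def t' t)
  obtain ⟨m, T, U, hTU⟩ := exists_coords (S := S) (N := M) χ (c.symm y)
  have key : ∀ b : S, b ∈ Q.comap (algebraMap S S') ↔ ∀ i, ∃ k : ℕ, b ^ k • T i (c.symm y) = 0 := by
    intro b
    rw [Ideal.mem_comap, hy]
    constructor
    · rintro ⟨k, hk⟩ i
      refine ⟨k, ?_⟩
      rw [← map_smul, show b ^ k • c.symm y = 0 from c.injective (by
        rw [hcs, c.apply_symm_apply, map_pow, hk, map_zero]), map_zero]
    · intro hall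
      choose k hk using hall
      refine ⟨∑ i, k i, ?_⟩
      rw [← map_pow, ← c.apply_symm_apply y, ← hcs, ← c.map_zero]
      refine congrArg c ?_
      rw [← hTU, Finset.smul_sum]
      refine Finset.sum_eq_zero fun i _ => ?_
      rw [← map_smul]
      obtain ⟨d, hd⟩ := Nat.exists_eq_add_of_le (Finset.single_le_sum (f := k) (fun j _ => Nat.zero_le _) (Finset.mem_univ i))
      rw [hd, add_comm, pow_add, mul_smul, hk i, smul_zero, map_zero]
  by_contra hne
  push Not at hne
  have hex : ∀ i, ∃ b : S, b ∉ Q.comap (algebraMap S S') ∧ ∃ k : ℕ, b ^ k • T i (c.symm y) = 0 := by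
    intro i
    rcases hne (T i (c.symm y)) with ⟨b, hb⟩
    rcases hb with ⟨hb1, hb2⟩ | ⟨hb1, hb2⟩
    · obtain ⟨k, hk⟩ := (key b).mp hb1 i
      exact absurd hk (hb2 k)
    · exact ⟨b, hb1, hb2⟩
  choose b hb k hk using hex
  have hprod : ∏ i, b i ∈ Q.comap (algebraMap S S') := (key _).mpr fun i => ⟨k i, by
    rw [← Finset.mul_prod_erase Finset.univ b (Finset.mem_univ i), mul_pow, mul_comm, mul_smul, hk, smul_zero]⟩
  obtain ⟨i, -, hi⟩ := (Ideal.IsPrime.prod_mem_iff (p := Q.comap (algebraMap S S'))).mp hprod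
  exact hb i hi

/-- An associated point of a fibre lifts to an associated point of any base changed fibre over it. -/
theorem ass_up [Algebra.FiniteType R' S'] (f : M →ₗ[S] M') (hf : IsBaseChange S' f) (t' : Ideal R') [t'.IsPrime]
    (t : Ideal R) [t.IsPrime] [t'.LiesOver t] (q : Ideal S) [q.IsPrime] [q.LiesOver t]
    (h : FlatCA.fiberIdeal t q ∈ associatedPrimes (t.Fiber S) (FlatCA.fiberMod t S M)) :
    ∃ (Q : Ideal S') (_ : Q.IsPrime), Q.comap (algebraMap S S') = q ∧ Q.LiesOver t' ∧
      FlatCA.fiberIdeal t' Q ∈ associatedPrimes (t'.Fiber S') (FlatCA.fiberMod t' S' M') := by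
  obtain ⟨y, hy⟩ := (PurePush.ass_fiber_iff t q).mp h
  obtain ⟨c, hc, hcs⟩ := exists_fibre_equiv (R := R) f hf t'
  let χ : t.ResidueField →ₐ[R] t'.ResidueField :=
    Ideal.ResidueField.mapₐ t t' (Algebra.ofId R R') (Ideal.over_def t' t)
  let χN : M ⊗[R] t.ResidueField →ₗ[S] M ⊗[R] t'.ResidueField :=
    TensorProduct.AlgebraTensorModule.lTensor S M χ.toLinearMap
  have hχ : Function.Injective χN := lTensor_injective (N := M) χ
  let z := c (χN y)
  have hann : ∀ b : S, algebraMap S S' b • z = 0 → b • y = 0 := fun b hb => hχ (c.injective (by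
    rw [map_smul, hcs, hb, map_zero, map_zero]))
  have hdisj : Disjoint ((Submodule.span S' {z}).annihilator : Set S')
      (q.primeCompl.map (algebraMap S S' : S →* S') : Set S') := by
    rw [Set.disjoint_left]
    rintro _ hx ⟨b, hb, rfl⟩
    refine hb ((hy b).mpr ⟨1, ?_⟩)
    rw [pow_one]
    exact hann b (Groth.Agent.CAlg5.mem_ann.mp hx)
  obtain ⟨Q₁, hQ₁, hle, hQd⟩ := Ideal.exists_le_prime_disjoint _ _ hdisj
  obtain ⟨Q, hQ, hQle⟩ := Ideal.exists_minimalPrimes_le hle
  have := hQ.1.1
  have hQw : Q ∈ FlatCA.weakAss S' (M' ⊗[R'] t'.ResidueField) := ⟨z, hQ⟩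
  have hQo := Groth.Agent.FlatCrit65.liesOver_of_mem_weakAss_fibre hQw
  refine ⟨Q, inferInstance, le_antisymm (fun b hb => ?_) (fun b hb => ?_), hQo,
    Groth.Agent.FlatCrit65.fiberIdeal_mem_ass hQw⟩
  · by_contra hbq
    exact Set.disjoint_left.mp hQd (hQle hb) (Submonoid.mem_map_of_mem _ (show b ∈ q.primeCompl from hbq))
  · obtain ⟨k, hk⟩ := (hy b).mp hb
    refine Ideal.IsPrime.mem_of_pow_mem inferInstance k (hQ.1.2 (Groth.Agent.CAlg5.mem_ann.mpr ?_))
    rw [← hcs, ← map_smul, hk, map_zero, map_zero]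

end BaseChange

section Etale

variable {R S S' : Type u} [CommRing R] [CommRing S] [CommRing S'] [Algebra R S] [Algebra R S'] [Algebra S S']
  [IsScalarTower R S S'] [Algebra.Etale S S'] [Algebra.FiniteType R S']
  {N N' : Type u} [AddCommGroup N] [Module S N] [Module R N] [IsScalarTower R S N]
  [AddCommGroup N'] [Module S' N'] [Module R N'] [IsScalarTower R S' N'] [Module S N'] [IsScalarTower S S' N']

/-- A point above an associated point in an etale algebra is associated. -/
theorem ass_etale (g : N →ₗ[S] N') (hg : IsBaseChange S' g) (t : Ideal R) [t.IsPrime] (Q : Ideal S') [Q.IsPrime]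
    [(Q.comap (algebraMap S S')).LiesOver t]
    (h : FlatCA.fiberIdeal t (Q.comap (algebraMap S S')) ∈
      associatedPrimes (t.Fiber S) (FlatCA.fiberMod t S N)) :
    Q.LiesOver t ∧ FlatCA.fiberIdeal t Q ∈ associatedPrimes (t.Fiber S') (FlatCA.fiberMod t S' N') := by
  have hlo : Q.LiesOver t := ⟨by
    rw [Ideal.over_def (Q.comap (algebraMap S S')) t, Ideal.under, Ideal.comap_comap,
      ← IsScalarTower.algebraMap_eq]⟩
  refine ⟨hlo, Groth.Agent.FlatCrit65.fiberIdeal_mem_ass ?_⟩
  obtain ⟨y, hy⟩ := (PurePush.ass_fiber_iff t _).mp h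
  let e : S' ⊗[S] (N ⊗[R] t.ResidueField) ≃ₗ[S'] N' ⊗[R] t.ResidueField :=
    (TensorProduct.AlgebraTensorModule.assoc R S S' S' N t.ResidueField).symm ≪≫ₗ
      TensorProduct.AlgebraTensorModule.congr hg.equiv (LinearEquiv.refl R t.ResidueField)
  let z := e (1 ⊗ₜ[S] y)
  let I : Ideal S := LinearMap.ker (LinearMap.toSpanSingleton S (N ⊗[R] t.ResidueField) y)
  have hIq : I ≤ Q.comap (algebraMap S S') := fun b hb => (hy b).mpr ⟨1, by rw [pow_one]; exact hb⟩
  have hexact : Function.Exact (I.subtype.lTensor S')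
      ((LinearMap.toSpanSingleton S (N ⊗[R] t.ResidueField) y).lTensor S') :=
    Module.Flat.lTensor_exact S' (LinearMap.exact_subtype_ker_map _)
  have hann : (Submodule.span S' {z}).annihilator = I.map (algebraMap S S') := by
    refine le_antisymm (fun a ha => ?_) (Ideal.map_le_iff_le_comap.mpr fun b hb => ?_)
    · have h0 : e (a ⊗ₜ[S] y) = 0 := by
        rw [← mul_one a, ← smul_eq_mul, ← smul_tmul', map_smul]
        exact Groth.Agent.CAlg5.mem_ann.mp ha
      have h1 : (LinearMap.toSpanSingleton S (N ⊗[R] t.ResidueField) y).lTensor S' (a ⊗ₜ[S] (1 : S)) = 0 := by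
        rw [LinearMap.lTensor_tmul, LinearMap.toSpanSingleton_apply, one_smul]
        exact (map_eq_zero_iff e e.injective).mp h0
      obtain ⟨w, hw⟩ := (hexact _).mp h1
      have h2 : ∀ w : S' ⊗[S] I, TensorProduct.rid S S' (I.subtype.lTensor S' w) ∈ I.map (algebraMap S S') := by
        intro w
        induction w using TensorProduct.induction_on with
        | zero => simp
        | add u v hu hv => simp only [map_add]; exact Ideal.add_mem _ hu hv
        | tmul s i =>
          rw [LinearMap.lTensor_tmul, TensorProduct.rid_tmul, Algebra.smul_def]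
          exact Ideal.mul_mem_right _ _ (Ideal.mem_map_of_mem _ i.2)
      have := h2 w
      rwa [hw, TensorProduct.rid_tmul, one_smul] at this
    · refine Groth.Agent.CAlg5.mem_ann.mpr ?_
      show algebraMap S S' b • e (1 ⊗ₜ[S] y) = 0
      rw [← map_smul, algebraMap_smul, ← tmul_smul, show b • y = 0 from hb, tmul_zero, map_zero]
  obtain ⟨Q₀, hQ₀, hQ₀le⟩ := Ideal.exists_minimalPrimes_le
    (show (Submodule.span S' {z}).annihilator ≤ Q from hann ▸ Ideal.map_le_iff_le_comap.mpr hIq)
  have := hQ₀.1.1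
  have hcomap : Q₀.comap (algebraMap S S') = Q.comap (algebraMap S S') := by
    refine le_antisymm (Ideal.comap_mono hQ₀le) fun b hb => ?_
    obtain ⟨k, hk⟩ := (hy b).mp hb
    refine Ideal.IsPrime.mem_of_pow_mem inferInstance k (show b ^ k ∈ Q₀.comap (algebraMap S S') from ?_)
    exact hQ₀.1.2 (hann.symm ▸ Ideal.mem_map_of_mem _ (show b ^ k ∈ I from hk))
  have := Algebra.QuasiFinite.eq_of_le_of_under_eq (R := S) Q₀ Q hQ₀le (by rw [Ideal.under, Ideal.under, hcomap])
  exact ⟨z, this ▸ hQ₀⟩

end Etale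

end Groth.Agent.FlatCrit65.Purity
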