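import Groth.Agent.FlatCrit65.Purity.Ass
import Groth.Agent.RG29.DevBasic
import Groth.Agent.S1221
import Groth.Agent.S1236

/-!
# First consequences of purity
-/

set_option autoImplicit false
set_option linter.style.haveILetI false

universe u

noncomputable section

open TensorProduct

attribute [local instance] Algebra.TensorProduct.rightAlgebra

namespace Groth.Agent.FlatCrit65.Purity

/-- A flat module is flat at every prime. -/
theorem flatAt_of_flat {A B : Type u} [CommRing A] [CommRing B] [Algebra A B]
    {N : Type u} [AddCommGroup N] [Module B N] [Module A N] [IsScalarTower A B N] [Module.Flat A N]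
    (q : Ideal B) [q.IsPrime] : FlatCA.FlatAt A q N := by
  show Module.Flat A (LocalizedModule q.primeCompl N)
  rw [Module.Flat.iff_lTensor_preserves_injective_linearMap]
  intro P Q _ _ _ _ u hu
  let mk := LocalizedModule.mkLinearMap q.primeCompl N
  let FP := TensorProduct.AlgebraTensorModule.rTensor A P mk
  let FQ := TensorProduct.AlgebraTensorModule.rTensor A Q mk
  let L := TensorProduct.AlgebraTensorModule.lTensor B (LocalizedModule q.primeCompl N) u
  let L' := TensorProduct.AlgebraTensorModule.lTensor B N u
  have hF : ∀ x, L (FP x) = FQ (L' x) := fun x => by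
    induction x using TensorProduct.induction_on with
    | zero => simp
    | tmul m n => rfl
    | add x y hx hy => simp only [map_add, hx, hy]
  have hL' : Function.Injective L' := Module.Flat.lTensor_preserves_injective_linearMap u hu
  refine (injective_iff_map_eq_zero L).2 fun z hz => ?_
  obtain ⟨⟨z₀, t⟩, ht⟩ := IsLocalizedModule.surj q.primeCompl FP z
  dsimp only at ht
  have h0 : FQ (L' z₀) = 0 := by
    rw [← hF, ← ht]
    show L ((t : B) • z) = 0
    rw [map_smul, hz, smul_zero]
  obtain ⟨s, hs0⟩ := (IsLocalizedModule.eq_zero_iff q.primeCompl FQ).1 h0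
  have h1 : (s : B) • z₀ = 0 := hL' (by rw [map_smul, map_zero]; exact hs0)
  have h5 : FP z₀ = 0 := (IsLocalizedModule.eq_zero_iff q.primeCompl FP).2 ⟨s, h1⟩
  rw [h5] at ht
  exact (IsLocalizedModule.map_units FP t |> (Module.End.isUnit_iff _).1).1
    (show (t : B) • z = (t : B) • 0 by rw [smul_zero]; exact ht)

variable {A B : Type u} [CommRing A] [CommRing B] [Algebra A B]
  {N : Type u} [AddCommGroup N] [Module B N] [Module A N] [IsScalarTower A B N]

/-- For a pure module, associated points of nearby fibres specialise into the fibre. -/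
theorem exists_over_of_pure {p : Ideal A} [p.IsPrime] (hpure : FlatCA.IsPureAlong A B N p) (t' : Ideal A) [t'.IsPrime]
    (ht' : t' ≤ p) (Q : Ideal B) [Q.IsPrime] [Q.LiesOver t']
    (h : FlatCA.fiberIdeal t' Q ∈ associatedPrimes (t'.Fiber B) (FlatCA.fiberMod t' B N)) :
    ∃ P : Ideal B, P.IsPrime ∧ Q ≤ P ∧ P.LiesOver p := by
  by_contra hne
  push Not at hne
  have : p.LiesOver p := ⟨by simp [Ideal.under]⟩
  exact hpure A B N LinearMap.id t' p Q (RG29.isEtaleNhd_refl p)
    ⟨inferInstance, IsBaseChange.ofEquiv (LinearEquiv.refl B N), ht', inferInstance, inferInstance, h,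
      fun P _ hP hPp => hne P inferInstance hP hPp⟩

/-- For a flat pure module, associated points of nearby fibres specialise to associated points of the fibre. -/
theorem exists_ass_over_of_pure [Algebra.FiniteType A B] [Module.Finite B N] {p : Ideal A} [p.IsPrime]
    (hflat : ∀ (q : Ideal B) [q.IsPrime], q.LiesOver p → FlatCA.FlatAt A q N)
    (hpure : FlatCA.IsPureAlong A B N p) (t' : Ideal A) [t'.IsPrime]
    (ht' : t' ≤ p) (Q : Ideal B) [Q.IsPrime] [Q.LiesOver t']
    (h : FlatCA.fiberIdeal t' Q ∈ associatedPrimes (t'.Fiber B) (FlatCA.fiberMod t' B N)) :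
    ∃ (q : Ideal B) (_ : q.IsPrime), Q ≤ q ∧ q.LiesOver p ∧
      FlatCA.fiberIdeal p q ∈ associatedPrimes (p.Fiber B) (FlatCA.fiberMod p B N) :=
  Groth.Agent.S1221.result N p hflat t' ht' Q h (exists_over_of_pure hpure t' ht' Q h)

end Groth.Agent.FlatCrit65.Purity
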