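import Groth.Prelude.Def_FlatCA
import Groth.Agent.FlatCrit65.Dev.LocalFree
import Groth.Agent.FlatMor67.FlatAtBC
import Groth.Agent.FlatMor67.ImpurityTransfer
import Mathlib.RingTheory.Ideal.GoingDown

/-!
# Impurities and base change of the base
-/

set_option autoImplicit false
set_option linter.style.haveILetI false

universe u

noncomputable section

open TensorProduct

namespace Groth.Agent.FlatCrit65.Purity

variable {A B : Type u} [CommRing A] [CommRing B] [Algebra A B]
  {N : Type u} [AddCommGroup N] [Module B N] {p : Ideal A} [p.IsPrime]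
  {A' B' N' : Type u} [CommRing A'] [CommRing B'] [Algebra A A'] [Algebra B B'] [Algebra A' B'] [Algebra A B']
  [IsScalarTower A B B'] [IsScalarTower A A' B'] [Algebra.IsPushout A B A' B']
  [AddCommGroup N'] [Module B' N'] [Module B N'] [IsScalarTower B B' N'] (f : N →ₗ[B] N') (hf : IsBaseChange B' f)
  (p' : Ideal A') [p'.IsPrime]

include hf in
/-- An impurity of `N` on an algebra over `A'` is an impurity of the base change of `N` to `A'`. -/
theorem hasImpurity_lift {A'' B'' N'' : Type u} [CommRing A''] [CommRing B''] [Algebra A A''] [Algebra B B'']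
    [Algebra A'' B''] [Algebra A B''] [IsScalarTower A B B''] [IsScalarTower A A'' B''] [AddCommGroup N'']
    [Module B'' N''] [Module B N''] [IsScalarTower B B'' N''] [Module A'' N''] [IsScalarTower A'' B'' N'']
    (g : N →ₗ[B] N'') (t' t : Ideal A'') [t'.IsPrime] [t.IsPrime] (P : Ideal B'') [P.IsPrime]
    (himp : FlatCA.IsImpurity A B N p A'' B'' N'' g t' t P)
    [Algebra A' A''] [IsScalarTower A A' A''] (ht : t.LiesOver p')
    {Q : ∀ (H : Type u) [CommRing H] [Algebra A' H], Ideal H → Prop} (hQ : Q A'' t) :
    FlatCA.HasImpurity A' B' N' p' Q := by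
  obtain ⟨hpush, hg, hle, -, hPo, hass, hmiss⟩ := himp
  haveI := hpush
  letI : Algebra A' B'' := ((algebraMap A'' B'').comp (algebraMap A' A'')).toAlgebra
  haveI : IsScalarTower A' A'' B'' := IsScalarTower.of_algebraMap_eq' rfl
  haveI : IsScalarTower A A' B'' := IsScalarTower.of_algebraMap_eq fun a => by
    rw [IsScalarTower.algebraMap_apply A' A'' B'', ← IsScalarTower.algebraMap_apply A A' A'',
      ← IsScalarTower.algebraMap_apply A A'' B'']
  let ψ : B' →ₐ[A] B'' := Algebra.pushoutDesc B' (IsScalarTower.toAlgHom A B B'') (IsScalarTower.toAlgHom A A' B'')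
    fun _ _ => Commute.all _ _
  letI : Algebra B' B'' := ψ.toRingHom.toAlgebra
  haveI : IsScalarTower B B' B'' := IsScalarTower.of_algebraMap_eq fun b =>
    (Algebra.pushoutDesc_left B' (IsScalarTower.toAlgHom A B B'') (IsScalarTower.toAlgHom A A' B'') _ b).symm
  haveI : IsScalarTower A' B' B'' := IsScalarTower.of_algebraMap_eq fun a =>
    (Algebra.pushoutDesc_right B' (IsScalarTower.toAlgHom A B B'') (IsScalarTower.toAlgHom A A' B'') _ a).symm
  haveI : Algebra.IsPushout A A' B B' := Algebra.IsPushout.symm inferInstance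
  haveI : IsScalarTower A B' B'' := IsScalarTower.of_algebraMap_eq fun a => (ψ.commutes a).symm
  haveI hpush' : Algebra.IsPushout A' B' A'' B'' :=
    Algebra.IsPushout.symm ((Algebra.IsPushout.comp_iff A A' B B' (T := A'') (T' := B'')).1 hpush.symm)
  letI : Module B' N'' := Module.compHom N'' (algebraMap B' B'')
  haveI : IsScalarTower B' B'' N'' := IsScalarTower.of_algebraMap_smul fun _ _ => rfl
  haveI : IsScalarTower B B' N'' := IsScalarTower.of_algebraMap_smul fun b n => by
    show algebraMap B' B'' (algebraMap B B' b) • n = b • n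
    rw [← IsScalarTower.algebraMap_apply, algebraMap_smul]
  have hcomp : (hf.lift g).restrictScalars B ∘ₗ f = g := hf.lift_comp g
  have hbc : IsBaseChange B'' (hf.lift g) := IsBaseChange.of_comp hf (by rw [hcomp]; exact hg)
  exact ⟨A'', B'', N'', inferInstance, inferInstance, inferInstance, inferInstance, inferInstance,
    inferInstance, inferInstance, inferInstance, inferInstance, inferInstance, inferInstance,
    inferInstance, inferInstance, inferInstance, hf.lift g, t', t, inferInstance, inferInstance, P,
    inferInstance, ⟨hpush', hbc, hle, ht, hPo, hass, hmiss⟩, hQ⟩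

include hf in
/-- An impurity of a base change of `N` is an impurity of `N`. -/
theorem hasImpurity_of_baseChange [hp : p'.LiesOver p]
    {Q' : ∀ (H : Type u) [CommRing H] [Algebra A' H], Ideal H → Prop}
    {Q : ∀ (H : Type u) [CommRing H] [Algebra A H], Ideal H → Prop}
    (hQQ : ∀ (H : Type u) [CommRing H] [Algebra A H] [Algebra A' H] [IsScalarTower A A' H] (t : Ideal H)
      (_ : t.IsPrime) (_ : t.LiesOver p'), Q' H t → Q H t)
    (h : FlatCA.HasImpurity A' B' N' p' Q') : FlatCA.HasImpurity A B N p Q := by
  obtain ⟨A'', B'', N'', _, _, _, _, _, _, _, _, _, _, _, _, _, _, g, t', t, _, _, P, _,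
    ⟨hpush, hg, hle, hto, hPo, hass, hmiss⟩, hQ⟩ := h
  haveI := hpush
  haveI := hto
  letI : Algebra A A'' := ((algebraMap A' A'').comp (algebraMap A A')).toAlgebra
  haveI : IsScalarTower A A' A'' := IsScalarTower.of_algebraMap_eq' rfl
  letI : Algebra B B'' := ((algebraMap B' B'').comp (algebraMap B B')).toAlgebra
  haveI : IsScalarTower B B' B'' := IsScalarTower.of_algebraMap_eq' rfl
  letI : Algebra A B'' := ((algebraMap A'' B'').comp (algebraMap A A'')).toAlgebra
  haveI : IsScalarTower A A'' B'' := IsScalarTower.of_algebraMap_eq' rfl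
  haveI : IsScalarTower A A' B'' := IsScalarTower.of_algebraMap_eq fun a => by
    rw [IsScalarTower.algebraMap_apply A' A'' B'', ← IsScalarTower.algebraMap_apply A A' A'']
    rfl
  haveI : IsScalarTower A B' B'' := IsScalarTower.of_algebraMap_eq fun a => by
    rw [IsScalarTower.algebraMap_apply A A' B', ← IsScalarTower.algebraMap_apply A' B' B'',
      ← IsScalarTower.algebraMap_apply A A' B'']
  haveI : IsScalarTower A B B'' := IsScalarTower.of_algebraMap_eq fun a => by
    rw [IsScalarTower.algebraMap_apply B B' B'', ← IsScalarTower.algebraMap_apply A B B',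
      ← IsScalarTower.algebraMap_apply A B' B'']
  haveI : Algebra.IsPushout A A' B B' := Algebra.IsPushout.symm inferInstance
  have hP2 : Algebra.IsPushout A B A'' B'' :=
    Algebra.IsPushout.symm ((Algebra.IsPushout.comp_iff A A' B B' (T := A'') (T' := B'')).2 hpush.symm)
  letI : Module B N'' := Module.compHom N'' (algebraMap B B'')
  haveI : IsScalarTower B B'' N'' := IsScalarTower.of_algebraMap_smul fun _ _ => rfl
  haveI : IsScalarTower B B' N'' := IsScalarTower.of_algebraMap_smul fun b n => by
    show algebraMap B B' b • n = algebraMap B B'' b • n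
    rw [IsScalarTower.algebraMap_apply B B' B'', algebraMap_smul B'' (algebraMap B B' b) n]
  exact ⟨A'', B'', N'', inferInstance, inferInstance, inferInstance, inferInstance, inferInstance,
    inferInstance, inferInstance, inferInstance, inferInstance, inferInstance, inferInstance,
    inferInstance, inferInstance, inferInstance, g.restrictScalars B ∘ₗ f, t', t, inferInstance, inferInstance, P,
    inferInstance, ⟨hP2, hf.comp hg, hle, Ideal.LiesOver.trans t p' p, hPo, hass, hmiss⟩,
    hQQ A'' t inferInstance inferInstance hQ⟩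

end Groth.Agent.FlatCrit65.Purity

namespace Groth.Agent.FlatCrit65.Purity

variable {A B : Type u} [CommRing A] [CommRing B] [Algebra A B] [Algebra.FiniteType A B]
  {N : Type u} [AddCommGroup N] [Module B N] {p : Ideal A} [p.IsPrime]
  {A' B' N' : Type u} [CommRing A'] [CommRing B'] [Algebra A A'] [Algebra B B'] [Algebra A' B'] [Algebra A B']
  [IsScalarTower A B B'] [IsScalarTower A A' B'] [Algebra.IsPushout A B A' B']
  [AddCommGroup N'] [Module B' N'] [Module B N'] [IsScalarTower B B' N'] (f : N →ₗ[B] N') (hf : IsBaseChange B' f)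
  (p' : Ideal A') [p'.IsPrime] [p'.LiesOver p] [Module.Flat A (Localization.AtPrime p')]

include hf in
/-- An impurity survives a base change which is flat at the point. -/
theorem hasImpurity_baseChange (h : FlatCA.HasImpurity A B N p fun _ _ _ _ => True) :
    FlatCA.HasImpurity A' B' N' p' fun _ _ _ _ => True := by
  obtain ⟨A₁, B₁, N₁, _, _, _, _, _, _, _, _, _, _, _, _, _, _, g, t', t, _, _, P, _, himp, -⟩ := h
  have hto : t.LiesOver p := himp.2.2.2.1
  haveI := hto
  letI : Algebra A₁ (TensorProduct A A' A₁) := Algebra.TensorProduct.rightAlgebra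
  haveI : IsScalarTower A A₁ (TensorProduct A A' A₁) := IsScalarTower.of_algebraMap_eq fun a =>
    ((Algebra.TensorProduct.includeRight : A₁ →ₐ[A] TensorProduct A A' A₁).commutes a).symm
  haveI : Algebra.IsPushout A A' A₁ (TensorProduct A A' A₁) := TensorProduct.isPushout
  haveI : Algebra.IsPushout A A₁ A' (TensorProduct A A' A₁) := Algebra.IsPushout.symm inferInstance
  obtain ⟨⟨u, hu⟩, hu1, hu2⟩ := Groth.Agent.FlatCrit65.Dev.exists_prime_pushout (R := A) (S := A') (R' := A₁)
    (S' := TensorProduct A A' A₁) p' t ((Ideal.over_def p' p).symm.trans (Ideal.over_def t p))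
  have hup : u.LiesOver p' := ⟨hu1.symm⟩
  haveI hut : u.LiesOver t := ⟨hu2.symm⟩
  have hflat0 : FlatCA.FlatAt A (u.comap (algebraMap A' (TensorProduct A A' A₁))) A' := by
    simp only [show u.comap (algebraMap A' (TensorProduct A A' A₁)) = p' from hu1]
    show Module.Flat A (LocalizedModule p'.primeCompl A')
    exact inferInstanceAs (Module.Flat A (Localization.AtPrime p'))
  have hflat : FlatCA.FlatAt A₁ u (TensorProduct A A' A₁) :=
    Groth.Agent.FlatMor67.FlatAtBC.flatAt_baseChange (R := A) (R' := A₁) (Algebra.linearMap A' (TensorProduct A A' A₁))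
      (IsBaseChange.linearMap A' (TensorProduct A A' A₁)) u hflat0
  haveI : Module.Flat A₁ (Localization.AtPrime u) := hflat
  haveI : (IsLocalRing.maximalIdeal (Localization.AtPrime u)).LiesOver t := Ideal.LiesOver.trans _ u t
  obtain ⟨U', hU'le, hU'p, hU'o⟩ := Ideal.exists_ideal_le_liesOver_of_le
    (IsLocalRing.maximalIdeal (Localization.AtPrime u)) (p := t') (q := t) himp.2.2.1
  let u' := U'.comap (algebraMap (TensorProduct A A' A₁) (Localization.AtPrime u))
  haveI : u'.IsPrime := Ideal.comap_isPrime _ _
  haveI : u'.LiesOver t' := ⟨by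
    rw [Ideal.under, Ideal.comap_comap, ← IsScalarTower.algebraMap_eq]; exact hU'o.over⟩
  have hu'le : u' ≤ u := le_trans (Ideal.comap_mono hU'le)
    (Ideal.over_def (IsLocalRing.maximalIdeal (Localization.AtPrime u)) u).ge
  obtain ⟨A₂, B₂, N₂, _, _, _, _, _, _, _, _, _, _, _, _, _, _, g₂, s', s, _, _, P₂, _, himp₂, iA', iT, hs⟩ :=
    Groth.Agent.FlatMor67.PurePush.isImpurity_transfer N p g t' t P himp (TensorProduct A A' A₁) u' u hu'le
      (fun H _ _ s => ∃ (_ : Algebra A' H) (_ : IsScalarTower A A' H), s.LiesOver p')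
      ⟨inferInstance, inferInstance, hup⟩
  exact hasImpurity_lift f hf p' g₂ s' s P₂ himp₂ hs trivial

end Groth.Agent.FlatCrit65.Purity
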