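import Groth.Agent.FlatCrit65.Purity.Basic
import Groth.Agent.FlatCrit65.Purity.Transfer
import Groth.Agent.FlatCrit65.Dev.Recursion
import Groth.Agent.RG29.FlatTransfer

/-!
# A flat module covered by devissages has no impurity
-/

set_option autoImplicit false
set_option linter.style.haveILetI false

universe u

noncomputable section

open TensorProduct

namespace Groth.Agent.FlatCrit65.Purity

open Groth.Agent.FlatCrit65.Dev Groth.Agent.FlatMor67

/-- Flatness at a prime passes to a flat algebra. -/
theorem flatAt_ascend {R S S' : Type u} [CommRing R] [CommRing S] [CommRing S'] [Algebra R S] [Algebra R S']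
    [Algebra S S'] [IsScalarTower R S S'] [Module.Flat S S'] {N M : Type u} [AddCommGroup N] [Module S N] [Module R N]
    [IsScalarTower R S N] [AddCommGroup M] [Module S' M] [Module S M] [IsScalarTower S S' M] [Module R M]
    [IsScalarTower R S' M] {g : N →ₗ[S] M} (hg : IsBaseChange S' g) (Q : Ideal S') [Q.IsPrime]
    (h : FlatCA.FlatAt R (Q.comap (algebraMap S S')) N) : FlatCA.FlatAt R Q M := by
  haveI : IsScalarTower R S M := IsScalarTower.of_algebraMap_smul fun r m => by
    rw [← algebraMap_smul S' (algebraMap R S r) m, ← IsScalarTower.algebraMap_apply, algebraMap_smul]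
  exact Groth.Agent.RG29.flat_localized_baseChange hg _ Q.primeCompl (fun t ht => ht) h

variable {R : Type u} [CommRing R] {p : Ideal R} [p.IsPrime]

/-- The torsion test over a local ring, with all the rings given. -/
theorem exists_over_of_devissage_aux {S : Type u} [CommRing S] [Algebra R S] {N : Type u} [AddCommGroup N] [Module S N]
    [Module R N] [IsScalarTower R S N]
    (T : FlatCA.CompleteDevissage R S N p) (hflat : ∀ q : Ideal S, [q.IsPrime] → q.LiesOver p → FlatCA.FlatAt R q N)
    {H SH NH : Type u} [CommRing H] [Algebra R H] [CommRing SH] [Algebra S SH] [Algebra H SH] [Algebra R SH]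
    [IsScalarTower R S SH] [IsScalarTower R H SH] [AddCommGroup NH] [Module SH NH]
    [Module S NH] [IsScalarTower S SH NH] [Module H NH] [IsScalarTower H SH NH]
    (g : N →ₗ[S] NH) (hg : IsBaseChange SH g) (t' t : Ideal H) [t'.IsPrime] [t.IsPrime] [t.LiesOver p] (hle : t' ≤ t)
    (P : Ideal SH) [P.IsPrime] [P.LiesOver t']
    (h : FlatCA.fiberIdeal t' P ∈ associatedPrimes (t'.Fiber SH) (FlatCA.fiberMod t' SH NH))
    {A : Type u} [CommRing A] [IsLocalRing A] [Algebra H A] [IsLocalization.AtPrime A t] [Algebra R A]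
    [IsScalarTower R H A] {S'' : Type u} [CommRing S''] [Algebra S S''] [Algebra A S''] [Algebra R S'']
    [Algebra H S''] [Algebra SH S''] [IsScalarTower H A S''] [IsScalarTower H SH S''] [Algebra.IsPushout H SH A S'']
    [IsScalarTower R A S''] [IsScalarTower R S S''] [IsScalarTower S SH S''] [Algebra.IsPushout R S A S'']
    {N'' : Type u} [AddCommGroup N''] [Module S'' N''] [Module SH N''] [IsScalarTower SH S'' N''] [Module S N'']
    [IsScalarTower S S'' N''] [IsScalarTower S SH N''] [Module A N''] [IsScalarTower A S'' N'']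
    (j : NH →ₗ[SH] N'') (hj : IsBaseChange S'' j) :
    ∃ P' : Ideal SH, P'.IsPrime ∧ P ≤ P' ∧ P'.LiesOver t := by
  classical
  let i : N →ₗ[S] N'' := j.restrictScalars S ∘ₗ g
  have hi : IsBaseChange S'' i := hg.comp hj
  have hmt : (IsLocalRing.maximalIdeal A).comap (algebraMap H A) = t := IsLocalization.AtPrime.comap_maximalIdeal A t
  have hmax : (IsLocalRing.maximalIdeal A).comap (algebraMap R A) = p := by
    rw [IsScalarTower.algebraMap_eq R H A, ← Ideal.comap_comap, hmt]
    exact (Ideal.over_def t p).symm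
  have hflat'' : ∀ Q : PrimeSpectrum S'', Q.asIdeal.comap (algebraMap A S'') = IsLocalRing.maximalIdeal A →
      FlatCA.FlatAt A Q.asIdeal N'' := fun Q hQ => by
    refine FlatAtBC.flatAt_baseChange (R := R) (R' := A) i hi Q.asIdeal (hflat (Q.asIdeal.comap (algebraMap S S'')) ⟨?_⟩)
    rw [Ideal.under, Ideal.comap_comap, ← IsScalarTower.algebraMap_eq, IsScalarTower.algebraMap_eq R A S'',
      ← Ideal.comap_comap, hQ, hmax]
  obtain ⟨-, -, htor⟩ := free_of_completeDevissage hmax T S'' N'' i hi hflat''
  -- the residue field as a module over the local ring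
  letI : Algebra A t'.ResidueField := (IsLocalization.lift (M := t.primeCompl) (g := algebraMap H t'.ResidueField)
    fun y => IsUnit.mk0 _ fun h0 => y.2 (hle (Ideal.algebraMap_residueField_eq_zero.mp h0))).toAlgebra
  haveI : IsScalarTower H A t'.ResidueField := IsScalarTower.of_algebraMap_eq fun r => by
    show _ = IsLocalization.lift (M := t.primeCompl) _ _
    rw [IsLocalization.lift_eq]
  obtain ⟨c, hc⟩ := FlatAtBC.exists_tensor_equiv (R := H) (R' := A) j hj t'.ResidueField
  have hcs : ∀ (s : SH) z, c (s • z) = algebraMap SH S'' s • c z := fun s z => by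
    induction z using TensorProduct.induction_on with
    | zero => simp
    | add a b ha hb => simp only [smul_add, map_add, ha, hb]
    | tmul m x => rw [smul_tmul', hc, hc, smul_tmul', map_smul, algebraMap_smul]
  obtain ⟨y, hy⟩ := (PurePush.ass_fiber_iff t' P).mp h
  have hx : c y ≠ 0 := fun h0 => Ideal.IsPrime.ne_top ‹P.IsPrime›
    ((Ideal.eq_top_iff_one P).2 ((hy 1).2 ⟨1, by rw [pow_one, one_smul]; exact c.injective (by rw [h0, map_zero])⟩))
  by_contra hne
  refine hx (htor t'.ResidueField (Submodule.span S'' {c y}).annihilator (fun Q hQ hJ => hne ?_) (c y)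
    fun s hs => Groth.Agent.CAlg5.mem_ann.mp hs)
  refine ⟨Q.asIdeal.comap (algebraMap SH S''), inferInstance, fun b hb => ?_, ⟨?_⟩⟩
  · obtain ⟨k, hk⟩ := (hy b).mp hb
    refine Ideal.IsPrime.mem_of_pow_mem inferInstance k (hJ (Groth.Agent.CAlg5.mem_ann.mpr ?_))
    rw [← hcs, hk, map_zero]
  · rw [Ideal.under, Ideal.comap_comap, ← IsScalarTower.algebraMap_eq, IsScalarTower.algebraMap_eq H A S'',
      ← Ideal.comap_comap, hQ.1, hmt]

set_option maxHeartbeats 1000000 in
/-- The torsion test over a local ring excludes impurities seen by a devissage. -/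
theorem exists_over_of_devissage {S : Type u} [CommRing S] [Algebra R S] {N : Type u} [AddCommGroup N] [Module S N]
    [Module R N] [IsScalarTower R S N]
    (T : FlatCA.CompleteDevissage R S N p) (hflat : ∀ q : Ideal S, [q.IsPrime] → q.LiesOver p → FlatCA.FlatAt R q N)
    {H SH NH : Type u} [CommRing H] [Algebra R H] [CommRing SH] [Algebra S SH] [Algebra H SH] [Algebra R SH]
    [IsScalarTower R S SH] [IsScalarTower R H SH] [Algebra.IsPushout R S H SH] [AddCommGroup NH] [Module SH NH]
    [Module S NH] [IsScalarTower S SH NH] [Module H NH] [IsScalarTower H SH NH]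
    (g : N →ₗ[S] NH) (hg : IsBaseChange SH g) (t' t : Ideal H) [t'.IsPrime] [t.IsPrime] [t.LiesOver p] (hle : t' ≤ t)
    (P : Ideal SH) [P.IsPrime] [P.LiesOver t']
    (h : FlatCA.fiberIdeal t' P ∈ associatedPrimes (t'.Fiber SH) (FlatCA.fiberMod t' SH NH)) :
    ∃ P' : Ideal SH, P'.IsPrime ∧ P ≤ P' ∧ P'.LiesOver t := by
  let A := Localization.AtPrime t
  let S'' := A ⊗[H] SH
  letI : Algebra SH S'' := Algebra.TensorProduct.rightAlgebra
  haveI : IsScalarTower H SH S'' := IsScalarTower.of_algebraMap_eq fun r =>
    ((Algebra.TensorProduct.includeRight : SH →ₐ[H] S'').commutes r).symm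
  haveI pH : Algebra.IsPushout H SH A S'' := TensorProduct.isPushout'
  letI : Algebra S S'' := ((algebraMap SH S'').comp (algebraMap S SH)).toAlgebra
  haveI : IsScalarTower S SH S'' := IsScalarTower.of_algebraMap_eq' rfl
  haveI : IsScalarTower R H S'' := IsScalarTower.of_algebraMap_eq (R := R) (S := H) (A := S'') fun r => by
    rw [IsScalarTower.algebraMap_apply R A S'', IsScalarTower.algebraMap_apply R H A]
    exact (IsScalarTower.algebraMap_apply H A S'' _).symm
  haveI : IsScalarTower R SH S'' := IsScalarTower.of_algebraMap_eq (R := R) (S := SH) (A := S'') fun r => by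
    rw [IsScalarTower.algebraMap_apply R H SH, ← IsScalarTower.algebraMap_apply H SH S'',
      ← IsScalarTower.algebraMap_apply R H S'']
  haveI : IsScalarTower R S S'' := IsScalarTower.of_algebraMap_eq (R := R) (S := S) (A := S'') fun r => by
    rw [IsScalarTower.algebraMap_apply S SH S'', ← IsScalarTower.algebraMap_apply R S SH,
      ← IsScalarTower.algebraMap_apply R SH S'']
  haveI : Algebra.IsPushout R H S SH := Algebra.IsPushout.symm inferInstance
  haveI pS : Algebra.IsPushout R S A S'' := Algebra.IsPushout.symm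
    ((Algebra.IsPushout.comp_iff R H S SH (T := A) (T' := S'')).2 pH.symm)
  let N'' := S'' ⊗[SH] NH
  haveI : IsScalarTower S SH N'' := IsScalarTower.of_algebraMap_smul fun s n => by
    rw [← algebraMap_smul S'' (algebraMap S SH s) n, ← IsScalarTower.algebraMap_apply, algebraMap_smul]
  haveI : IsScalarTower S S'' N'' := inferInstance
  haveI : IsScalarTower A S'' N'' := inferInstance
  let j : NH →ₗ[SH] N'' := TensorProduct.mk SH S'' NH 1
  have hj : IsBaseChange S'' j := TensorProduct.isBaseChange SH NH S''
  refine exists_over_of_devissage_aux (A := A) (S'' := S'') (N'' := N'') T hflat g hg t' t hle P h ?_ ?_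
  · with_reducible exact j
  · with_reducible_and_instances exact hj

/-- A flat module with a devissage has no impurity. -/
theorem not_hasImpurity_of_devissage {S : Type u} [CommRing S] [Algebra R S] {N : Type u} [AddCommGroup N]
    [Module S N] [Module R N] [IsScalarTower R S N] (T : FlatCA.CompleteDevissage R S N p)
    (hflat : ∀ q : Ideal S, [q.IsPrime] → q.LiesOver p → FlatCA.FlatAt R q N) :
    ¬ FlatCA.HasImpurity R S N p fun _ _ _ _ => True := by
  rintro ⟨H, SH, NH, _, _, _, _, _, _, _, _, _, _, _, _, _, _, g, t', t, _, _, P, _,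
    ⟨hpush, hg, hle, hto, hPo, hass, hmiss⟩, -⟩
  haveI := hpush
  haveI := hto
  haveI := hPo
  obtain ⟨P', hP', hle', hP'o⟩ := exists_over_of_devissage T hflat g hg t' t hle P hass
  exact hmiss P' hle' hP'o

variable {B : Type u} [CommRing B] [Algebra R B] [Algebra.FiniteType R B]
  {N : Type u} [AddCommGroup N] [Module B N] [Module R N] [IsScalarTower R B N]

/-- No impurity if the associated points near the fibre are covered by etale charts without impurity. -/
theorem not_hasImpurity_of_cover
    {k : ℕ} (C : Fin k → Type u) [∀ i, CommRing (C i)] [∀ i, Algebra B (C i)] [∀ i, Algebra R (C i)]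
    [∀ i, IsScalarTower R B (C i)] [∀ i, Algebra.Etale B (C i)] (Nc : Fin k → Type u) [∀ i, AddCommGroup (Nc i)]
    [∀ i, Module (C i) (Nc i)] [∀ i, Module B (Nc i)] [∀ i, IsScalarTower B (C i) (Nc i)]
    (g : ∀ i, N →ₗ[B] Nc i) (hg : ∀ i, IsBaseChange (C i) (g i))
    (hT : ∀ i, ¬ FlatCA.HasImpurity R (C i) (Nc i) p fun _ _ _ _ => True)
    (hcov : ∀ (t' : Ideal R) [t'.IsPrime], t' ≤ p → ∀ (Q : Ideal B) [Q.IsPrime], Q.LiesOver t' →
      FlatCA.fiberIdeal t' Q ∈ associatedPrimes (t'.Fiber B) (FlatCA.fiberMod t' B N) →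
      ∃ (i : Fin k) (Q' : Ideal (C i)), Q'.IsPrime ∧ Q'.comap (algebraMap B (C i)) = Q) :
    ¬ FlatCA.HasImpurity R B N p fun _ _ _ _ => True := by
  rintro ⟨H, BH, NH, _, _, _, _, _, _, _, _, _, _, _, _, _, _, f, t', t, _, _, P, _,
    ⟨hpush, hf, hle, hto, hPo, hass, hmiss⟩, -⟩
  haveI := hpush
  haveI := hto
  haveI := hPo
  let t₀ := t'.comap (algebraMap R H)
  haveI : t'.LiesOver t₀ := ⟨rfl⟩
  have ht₀ : t₀ ≤ p := (Ideal.comap_mono hle).trans (Ideal.over_def t p).ge
  obtain ⟨hQo, hQass⟩ := ass_down (R := R) (R' := H) f hf t' t₀ P hass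
  obtain ⟨i, Q', hQ'p, hQ'⟩ := hcov t₀ ht₀ (P.comap (algebraMap B BH)) hQo hQass
  -- the base change of the chart
  let D := C i ⊗[B] BH
  letI : Algebra BH D := Algebra.TensorProduct.rightAlgebra
  haveI : IsScalarTower B BH D := IsScalarTower.of_algebraMap_eq fun r =>
    ((Algebra.TensorProduct.includeRight : BH →ₐ[B] D).commutes r).symm
  haveI : Algebra.IsPushout B (C i) BH D := TensorProduct.isPushout
  haveI : Algebra.Etale BH D := RingHom.etale_algebraMap.1 (Groth.Agent.RG29.etale_includeRight B (C i) BH)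
  letI : Algebra H D := ((algebraMap BH D).comp (algebraMap H BH)).toAlgebra
  haveI : IsScalarTower H BH D := IsScalarTower.of_algebraMap_eq' rfl
  haveI : IsScalarTower R BH D := IsScalarTower.of_algebraMap_eq fun r => by
    rw [IsScalarTower.algebraMap_apply R B BH, ← IsScalarTower.algebraMap_apply B BH D,
      IsScalarTower.algebraMap_apply B (C i) D, ← IsScalarTower.algebraMap_apply R B (C i),
      ← IsScalarTower.algebraMap_apply R (C i) D]
  haveI : IsScalarTower R H D := IsScalarTower.of_algebraMap_eq fun r => by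
    rw [IsScalarTower.algebraMap_apply H BH D, ← IsScalarTower.algebraMap_apply R H BH,
      ← IsScalarTower.algebraMap_apply R BH D]
  haveI : Algebra.IsPushout R H B BH := hpush.symm
  haveI pC : Algebra.IsPushout R (C i) H D :=
    (Algebra.IsPushout.comp_iff R B H BH (T := C i) (T' := D)).2 inferInstance
  let ND := D ⊗[BH] NH
  let j : NH →ₗ[BH] ND := TensorProduct.mk BH D NH 1
  have hj : IsBaseChange D j := TensorProduct.isBaseChange BH NH D
  haveI : IsScalarTower B BH ND := IsScalarTower.of_algebraMap_smul fun s n => by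
    rw [← algebraMap_smul D (algebraMap B BH s) n, ← IsScalarTower.algebraMap_apply, algebraMap_smul]
  haveI : IsScalarTower B (C i) ND := IsScalarTower.of_algebraMap_smul fun s n => by
    rw [← algebraMap_smul D (algebraMap B (C i) s) n, ← IsScalarTower.algebraMap_apply, algebraMap_smul]
  have hN : IsBaseChange D ((j.restrictScalars B) ∘ₗ f) := hf.comp hj
  have hD : IsBaseChange D ((hg i).lift ((j.restrictScalars B) ∘ₗ f)) :=
    IsBaseChange.of_comp (hg i) (by rw [IsBaseChange.lift_comp]; exact hN)
  -- a point over the impurity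
  obtain ⟨⟨PD, hPD⟩, hPD1, hPD2⟩ := exists_prime_pushout (R := B) (S := C i) (R' := BH) (S' := D) Q' P hQ'
  haveI := hPD
  have : (PD.comap (algebraMap BH D)).LiesOver t' := by rw [hPD2]; infer_instance
  haveI : Algebra.FiniteType H BH := Algebra.FiniteType.of_surjective
    (Algebra.IsPushout.equiv R H B BH).toAlgHom
    (Algebra.IsPushout.equiv R H B BH).surjective
  haveI : Algebra.FiniteType H D := Algebra.FiniteType.trans (S := BH) inferInstance inferInstance
  obtain ⟨hPDo, hPDass⟩ := ass_etale j hj t' PD (by simp only [hPD2]; exact hass)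
  haveI := hPDo
  have hex : ∃ P' : Ideal D, P'.IsPrime ∧ PD ≤ P' ∧ P'.LiesOver t := by
    by_contra hne
    push Not at hne
    exact hT i ⟨H, D, ND, inferInstance, inferInstance, inferInstance, inferInstance, inferInstance, inferInstance,
      inferInstance, inferInstance, inferInstance, inferInstance, inferInstance, inferInstance, inferInstance,
      inferInstance, (hg i).lift ((j.restrictScalars B) ∘ₗ f), t', t, inferInstance, inferInstance, PD, inferInstance,
      ⟨inferInstance, hD, hle, hto, hPDo, hPDass, fun P' _ h1 h2 => hne P' inferInstance h1 h2⟩, trivial⟩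
  obtain ⟨P', hP'p, hle', hP'o⟩ := hex
  haveI := hP'p
  refine hmiss (P'.comap (algebraMap BH D)) (hPD2 ▸ Ideal.comap_mono hle') ⟨?_⟩
  rw [Ideal.under, Ideal.comap_comap, ← IsScalarTower.algebraMap_eq]
  exact hP'o.over

end Groth.Agent.FlatCrit65.Purity
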