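import Groth.Agent.FlatCrit65.Purity.Ass
import Groth.Agent.FlatCrit65.Purity.Transfer

/-!
# Descent of impurities
-/

set_option autoImplicit false
set_option linter.style.haveILetI false

universe u

noncomputable section

open TensorProduct

attribute [local instance] Algebra.TensorProduct.rightAlgebra

namespace Groth.Agent.FlatCrit65.Purity

variable {A B : Type u} [CommRing A] [CommRing B] [Algebra A B]
  {N : Type u} [AddCommGroup N] [Module B N] {p : Ideal A} [p.IsPrime]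

theorem exists_finset_range {A' B' : Type u} [CommRing A'] [CommRing B'] [Algebra A A'] [Algebra B B']
    [Algebra A' B'] [Algebra A B'] [IsScalarTower A B B'] [IsScalarTower A A' B'] [Algebra.IsPushout A B A' B']
    (b : B') : ∃ F : Finset A', ∀ (A₀ : Type u) [CommRing A₀] [Algebra A A₀] (π : A₀ →ₐ[A] A'),
      (↑F : Set A') ⊆ Set.range π → b ∈ (Algebra.TensorProduct.lift ((IsScalarTower.toAlgHom A A' B').comp π)
        (IsScalarTower.toAlgHom A B B') fun _ _ => Commute.all _ _).range := by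
  classical
  haveI : Algebra.IsPushout A A' B B' := Algebra.IsPushout.symm inferInstance
  obtain ⟨x, rfl⟩ := (Algebra.IsPushout.equiv A A' B B').surjective b
  induction x using TensorProduct.induction_on with
  | zero => exact ⟨∅, fun A₀ _ _ π _ => ⟨0, by simp⟩⟩
  | tmul a c =>
    refine ⟨{a}, fun A₀ _ _ π hπ => ?_⟩
    obtain ⟨a₀, rfl⟩ := hπ (Finset.mem_singleton_self a)
    refine ⟨a₀ ⊗ₜ c, ?_⟩
    simp [Algebra.IsPushout.equiv_tmul, Algebra.smul_def]
  | add x y hx hy =>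
    obtain ⟨F, hF⟩ := hx
    obtain ⟨G, hG⟩ := hy
    refine ⟨F ∪ G, fun A₀ _ _ π hπ => ?_⟩
    rw [Finset.coe_union, Set.union_subset_iff] at hπ
    rw [map_add]
    exact AlgHom.range _ |>.add_mem (hF A₀ π hπ.1) (hG A₀ π hπ.2)

/-- An impurity comes from every algebra containing enough coefficients. -/
theorem exists_descend {A' B' N' : Type u} [CommRing A'] [CommRing B'] [Algebra A A'] [Algebra B B']
    [Algebra A' B'] [Algebra A B'] [IsScalarTower A B B'] [IsScalarTower A A' B'] [AddCommGroup N'] [Module B' N']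
    [Module B N'] [IsScalarTower B B' N'] [Module A' N'] [IsScalarTower A' B' N'] (f : N →ₗ[B] N')
    (t' t : Ideal A') [t'.IsPrime] [t.IsPrime] (P : Ideal B') [P.IsPrime]
    (h : FlatCA.IsImpurity A B N p A' B' N' f t' t P) :
    ∃ (s : A') (F : Finset A'), s ∉ t ∧ ∀ (A₀ : Type u) [CommRing A₀] [Algebra A A₀] (π : A₀ →ₐ[A] A'),
      (↑F : Set A') ⊆ Set.range π → ∀ (s₀ : A₀), π s₀ = s → ∀ (t₁ : Ideal A₀) [t₁.IsPrime],
      t.comap π.toRingHom ≤ t₁ → t₁.LiesOver p → s₀ ∉ t₁ →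
      ∀ (Q : ∀ (H : Type u) [CommRing H] [Algebra A H], Ideal H → Prop), Q A₀ t₁ →
        FlatCA.HasImpurity A B N p Q := by
  classical
  obtain ⟨hpush, hf, hle, -, hPo, hass, hmiss⟩ := h
  haveI := hpush
  haveI := hPo
  -- an element outside `t` in the sum
  have hs : ∃ s : A', s ∉ t ∧ algebraMap A' B' s ∈ P ⊔ t.map (algebraMap A' B') := by
    by_contra hne
    push Not at hne
    obtain ⟨P', hP'p, hJP', hd⟩ := Ideal.exists_le_prime_disjoint (P ⊔ t.map (algebraMap A' B'))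
      (t.primeCompl.map (algebraMap A' B' : A' →* B'))
      (Set.disjoint_left.mpr fun x hx hx' => by
        obtain ⟨a, ha, rfl⟩ := hx'
        exact hne a ha hx)
    refine hmiss P' (le_sup_left.trans hJP') ⟨le_antisymm (Ideal.map_le_iff_le_comap.mp (le_sup_right.trans hJP'))
      fun a ha => ?_⟩
    by_contra hat
    exact Set.disjoint_left.mp hd ha (Submonoid.mem_map_of_mem _ (show a ∈ t.primeCompl from hat))
  obtain ⟨s, hst, hsum⟩ := hs
  obtain ⟨x, hx, y, hy, hxy⟩ := Submodule.mem_sup.mp hsum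
  -- lifts of `y`
  have hlift : ∀ y ∈ t.map (algebraMap A' B'), ∃ F : Finset A', ∀ (A₀ : Type u) [CommRing A₀] [Algebra A A₀]
      (π : A₀ →ₐ[A] A'), (↑F : Set A') ⊆ Set.range π →
      ∃ z ∈ (t.comap π.toRingHom).map (algebraMap A₀ (A₀ ⊗[A] B)),
        Algebra.TensorProduct.lift ((IsScalarTower.toAlgHom A A' B').comp π)
          (IsScalarTower.toAlgHom A B B') (fun _ _ => Commute.all _ _) z = y := by
    intro y hy
    refine Submodule.span_induction (p := fun y _ => ∃ F : Finset A', ∀ (A₀ : Type u) [CommRing A₀] [Algebra A A₀]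
      (π : A₀ →ₐ[A] A'), (↑F : Set A') ⊆ Set.range π →
      ∃ z ∈ (t.comap π.toRingHom).map (algebraMap A₀ (A₀ ⊗[A] B)),
        Algebra.TensorProduct.lift ((IsScalarTower.toAlgHom A A' B').comp π)
          (IsScalarTower.toAlgHom A B B') (fun _ _ => Commute.all _ _) z = y) ?_ ?_ ?_ ?_ hy
    · rintro _ ⟨a, ha, rfl⟩
      refine ⟨{a}, fun A₀ _ _ π hπ => ?_⟩
      obtain ⟨a₀, rfl⟩ := hπ (Finset.mem_singleton_self a)
      refine ⟨algebraMap A₀ (A₀ ⊗[A] B) a₀, Ideal.mem_map_of_mem _ ha, ?_⟩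
      rw [Algebra.TensorProduct.algebraMap_apply]
      simp
    · exact ⟨∅, fun A₀ _ _ π _ => ⟨0, Ideal.zero_mem _, map_zero _⟩⟩
    · rintro u v - - ⟨F, hF⟩ ⟨G, hG⟩
      refine ⟨F ∪ G, fun A₀ _ _ π hπ => ?_⟩
      rw [Finset.coe_union, Set.union_subset_iff] at hπ
      obtain ⟨z, hz, rfl⟩ := hF A₀ π hπ.1
      obtain ⟨w, hw, rfl⟩ := hG A₀ π hπ.2
      exact ⟨z + w, Ideal.add_mem _ hz hw, map_add _ _ _⟩
    · rintro b u - ⟨F, hF⟩
      obtain ⟨G, hG⟩ := exists_finset_range (A := A) (B := B) (A' := A') b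
      refine ⟨F ∪ G, fun A₀ _ _ π hπ => ?_⟩
      rw [Finset.coe_union, Set.union_subset_iff] at hπ
      obtain ⟨z, hz, rfl⟩ := hF A₀ π hπ.1
      obtain ⟨w, rfl⟩ := hG A₀ π hπ.2
      exact ⟨w * z, Ideal.mul_mem_left _ _ hz, map_mul _ _ _⟩
  obtain ⟨F, hF⟩ := hlift y hy
  refine ⟨s, F, hst, fun A₀ _ _ π hπ s₀ hs₀ t₁ _ ht₁ ht₁p hs₀t Q hQ => ?_⟩
  obtain ⟨z, hz, hzy⟩ := hF A₀ π hπ
  -- the descended data
  let B₀ := A₀ ⊗[A] B
  haveI : Algebra.IsPushout A B A₀ B₀ := TensorProduct.isPushout'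
  haveI : Algebra.IsPushout A A₀ B B₀ := TensorProduct.isPushout
  letI : Algebra A₀ A' := π.toRingHom.toAlgebra
  haveI : IsScalarTower A A₀ A' := IsScalarTower.of_algHom π
  let Φ : B₀ →ₐ[A] B' := Algebra.TensorProduct.lift ((IsScalarTower.toAlgHom A A' B').comp π)
    (IsScalarTower.toAlgHom A B B') (fun _ _ => Commute.all _ _)
  letI : Algebra B₀ B' := Φ.toRingHom.toAlgebra
  letI : Algebra A₀ B' := ((algebraMap A' B').comp (algebraMap A₀ A')).toAlgebra
  haveI : IsScalarTower A₀ A' B' := IsScalarTower.of_algebraMap_eq' rfl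
  haveI : IsScalarTower A A₀ B' := IsScalarTower.of_algebraMap_eq fun a => by
    rw [IsScalarTower.algebraMap_apply A₀ A' B', ← IsScalarTower.algebraMap_apply A A₀ A',
      ← IsScalarTower.algebraMap_apply A A' B']
  haveI : IsScalarTower A₀ B₀ B' := IsScalarTower.of_algebraMap_eq fun a => by
    show algebraMap A' B' (π a) = Φ (algebraMap A₀ B₀ a)
    rw [Algebra.TensorProduct.algebraMap_apply]
    erw [Algebra.TensorProduct.lift_tmul]
    simp
  haveI : IsScalarTower B B₀ B' := IsScalarTower.of_algebraMap_eq fun b => by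
    show _ = Φ ((1 : A₀) ⊗ₜ b)
    erw [Algebra.TensorProduct.lift_tmul]
    simp
  haveI : Algebra.IsPushout A A' B B' := hpush.symm
  haveI : IsScalarTower A B₀ B' := IsScalarTower.of_algHom Φ
  haveI hP0 : Algebra.IsPushout A₀ B₀ A' B' :=
    Algebra.IsPushout.symm ((Algebra.IsPushout.comp_iff A A₀ B B₀ (T := A') (T' := B')).1 inferInstance)
  let N₀ := B₀ ⊗[B] N
  let f₀ : N →ₗ[B] N₀ := TensorProduct.mk B B₀ N 1
  have hf₀ : IsBaseChange B₀ f₀ := TensorProduct.isBaseChange B N B₀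
  letI : Module B₀ N' := Module.compHom N' (algebraMap B₀ B')
  haveI : IsScalarTower B₀ B' N' := IsScalarTower.of_algebraMap_smul fun _ _ => rfl
  haveI : IsScalarTower B B₀ N' := IsScalarTower.of_algebraMap_smul fun b n => by
    rw [← algebraMap_smul B' (algebraMap B B₀ b) n, ← IsScalarTower.algebraMap_apply, algebraMap_smul]
  have hg : IsBaseChange B' (hf₀.lift f) := IsBaseChange.of_comp hf₀ (by rw [IsBaseChange.lift_comp]; exact hf)
  let t₀' := t'.comap (algebraMap A₀ A')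
  haveI : t'.LiesOver t₀' := ⟨rfl⟩
  obtain ⟨hPo₀, hass₀⟩ := ass_down (R := A₀) (R' := A') (hf₀.lift f) hg t' t₀' P hass
  refine ⟨A₀, B₀, N₀, inferInstance, inferInstance, inferInstance, inferInstance, inferInstance,
    inferInstance, inferInstance, inferInstance, inferInstance, inferInstance, inferInstance,
    inferInstance, inferInstance, inferInstance, f₀, t₀', t₁, inferInstance, inferInstance,
    P.comap (algebraMap B₀ B'), Ideal.comap_isPrime _ _,
    ⟨inferInstance, hf₀, (Ideal.comap_mono hle).trans ht₁, ht₁p, hPo₀, hass₀, fun P' _ hP' hP't => ?_⟩, hQ⟩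
  have he : algebraMap A₀ B₀ s₀ - z ∈ P.comap (algebraMap B₀ B') := by
    rw [Ideal.mem_comap, map_sub, ← IsScalarTower.algebraMap_apply, IsScalarTower.algebraMap_apply A₀ A' B']
    show algebraMap A' B' (π s₀) - Φ z ∈ P
    rw [hs₀, hzy, ← hxy, add_sub_cancel_right]
    exact hx
  have hz' : z ∈ P' :=
    Ideal.map_le_iff_le_comap.mpr (ht₁.trans hP't.over.le) hz
  refine hs₀t (hP't.over.ge (show algebraMap A₀ B₀ s₀ ∈ P' from ?_))
  have := Ideal.add_mem _ (hP' he) hz'
  rwa [sub_add_cancel] at this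

end Groth.Agent.FlatCrit65.Purity
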