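import Groth.Agent.FlatCrit65.Purity.Basic
import Groth.Agent.FlatMor67.PurePush
import Groth.Agent.FlatCrit65.FinitePure
import Groth.Agent.CAlg5.EtaleSplit
import Groth.Agent.RG29.DevBasic
import Mathlib

/-!
# Pure modules with finite fibres have finite support
-/

set_option autoImplicit false
set_option linter.style.haveILetI false

universe u

noncomputable section

open TensorProduct

attribute [local instance] Algebra.TensorProduct.rightAlgebra

namespace Groth.Agent.FlatCrit65.Purity

open Groth.Agent.FlatMor67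

/-- Below a point of the support there is an associated point of its fibre. -/
theorem exists_ass_le {R S : Type u} [CommRing R] [CommRing S] [Algebra R S] [Algebra.FiniteType R S]
    {N : Type u} [AddCommGroup N] [Module S N] [Module R N] [IsScalarTower R S N] [Module.Finite S N]
    (p : Ideal R) [p.IsPrime] (Q : Ideal S) [hQ : Q.IsPrime] [Q.LiesOver p]
    (h : (⟨Q, hQ⟩ : PrimeSpectrum S) ∈ Module.support S N) :
    ∃ (P : Ideal S) (_ : P.IsPrime), P ≤ Q ∧ P.LiesOver p ∧
      FlatCA.fiberIdeal p P ∈ associatedPrimes (p.Fiber S) (FlatCA.fiberMod p S N) := by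
  haveI : IsNoetherianRing (p.Fiber S) := Algebra.FiniteType.isNoetherianRing p.ResidueField _
  obtain ⟨x, -, hx⟩ := Groth.Agent.RG29.exists_fiber_point p Q
  have hxs : x ∈ Module.support (p.Fiber S) (FlatCA.fiberMod p S N) := by
    refine (Groth.Agent.RG29.mem_support_fiberMod_iff p N x).2 ?_
    convert h using 1
    exact PrimeSpectrum.ext hx
  obtain ⟨z, hz⟩ := Module.mem_support_iff'.1 hxs
  have hle : (⊥ : Submodule (p.Fiber S) (FlatCA.fiberMod p S N)).colon {z} ≤ x.asIdeal := fun r hr => by
    by_contra hrx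
    rw [Submodule.mem_colon_singleton, Submodule.mem_bot] at hr
    exact hz r hrx hr
  obtain ⟨P', hP', hP'x⟩ := Ideal.exists_minimalPrimes_le hle
  haveI := hP'.1.1
  refine ⟨P'.comap (algebraMap S (p.Fiber S)), Ideal.comap_isPrime _ _, (Ideal.comap_mono hP'x).trans hx.le,
    ((PrimeSpectrum.primesOverOrderIsoFiber R S p).symm ⟨P', inferInstance⟩).2.2, ?_⟩
  show FlatCA.fiberIdeal p (P'.comap
    (Algebra.TensorProduct.includeRight (R := R) (A := p.ResidueField) (B := S)).toRingHom) ∈ _
  rw [PurePush.fiberIdeal_comap]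
  exact isAssociatedPrime_iff.mpr ⟨hP'.1.1, Submodule.exists_eq_colon_of_mem_minimalPrimes hP'⟩

variable {A C : Type u} [CommRing A] [CommRing C] [Algebra A C] [Algebra.FiniteType A C] [Algebra.QuasiFinite A C]
  {N : Type u} [AddCommGroup N] [Module C N] [Module.Finite C N]

/-- A faithful pure module over a quasi-finite algebra: the algebra is finite over the local ring of the base. -/
theorem finite_localized_of_pure (hN : Module.annihilator C N = ⊥) (p : Ideal A) [p.IsPrime]
    (hpure : FlatCA.IsPureAlong A C N p) : Module.Finite (Localization.AtPrime p) (Localization.AtPrime p ⊗[A] C) := by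
  classical
  obtain ⟨A₁, _, _, hE, p₁, _, hp₁, n, F, _, _, R, _, _, hbij, ⟨ε⟩, hF, hR⟩ :=
    Groth.Agent.CAlg5.hasSplitting_aux (Groth.Agent.CAlg5.minOver C p).ncard A C p le_rfl
  haveI := hE
  haveI := hp₁
  let C₁ := A₁ ⊗[A] C
  let π : C₁ →ₐ[A₁] R := (AlgHom.snd A₁ (∀ i, F i) R).comp ε.toAlgHom
  have hπ : Function.Surjective π := fun r => ⟨ε.symm (0, r), by simp [π]⟩
  haveI : Algebra.QuasiFinite A₁ C₁ := inferInstance
  haveI : Algebra.QuasiFinite A₁ R := Algebra.QuasiFinite.of_surjective_algHom π hπ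
  haveI : Algebra.IsPushout A C A₁ C₁ := TensorProduct.isPushout'
  let NA := C₁ ⊗[C] N
  let fA : N →ₗ[C] NA := TensorProduct.mk C C₁ N 1
  -- no point of the remainder near the chosen point
  have hempty : ∀ q : Ideal R, q.IsPrime → ¬ q.comap (algebraMap A₁ R) ≤ p₁ := by
    intro q hq hle
    let Q := q.comap π.toRingHom
    haveI : Q.IsPrime := Ideal.comap_isPrime _ _
    let t' := Q.comap (algebraMap A₁ C₁)
    haveI : Q.LiesOver t' := ⟨rfl⟩
    have ht' : t' ≤ p₁ := by
      refine le_trans (le_of_eq ?_) hle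
      show (q.comap π.toRingHom).comap (algebraMap A₁ C₁) = _
      rw [Ideal.comap_comap, show π.toRingHom.comp (algebraMap A₁ C₁) = algebraMap A₁ R from π.comp_algebraMap]
    have hsupp : (⟨Q, inferInstance⟩ : PrimeSpectrum C₁) ∈ Module.support C₁ NA := by
      rw [Groth.Agent.S6284.result (R := C) (R' := C₁) N, Set.mem_preimage, Module.support_eq_zeroLocus, hN]
      simp
    obtain ⟨P, hP, hPQ, hPo, hPass⟩ := exists_ass_le t' Q hsupp
    refine hpure A₁ C₁ NA fA t' p₁ P ⟨hE, hp₁, hbij⟩
      ⟨inferInstance, TensorProduct.isBaseChange C N C₁, ht', hp₁, hPo, hPass, fun P₁ _ hP₁ hP₁o => ?_⟩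
    let e := ε.symm (1, 0)
    let f := ε.symm (0, 1)
    have hef : e * f = 0 := by simp [e, f, ← map_mul]
    have hfQ : f ∉ Q := fun hf => hq.ne_top ((Ideal.eq_top_iff_one q).2 (by simpa [Q, f, π] using hf))
    have heP₁ : e ∈ P₁ := hP₁ ((hP.mem_or_mem (by rw [hef]; exact P.zero_mem)).resolve_right fun h => hfQ (hPQ h))
    have hker : RingHom.ker π.toRingHom ≤ P₁ := fun z hz => by
      have hz2 : (ε z).2 = 0 := by simpa [π] using hz
      have : z = z * e := ε.injective (by
        rw [map_mul, AlgEquiv.apply_symm_apply]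
        exact Prod.ext (by simp) (by simp [hz2]))
      rw [this]
      exact P₁.mul_mem_left _ heP₁
    haveI : (P₁.map π.toRingHom).IsPrime := Ideal.map_isPrime_of_surjective hπ hker
    refine hR (P₁.map π.toRingHom) ?_ inferInstance
    rw [← show π.toRingHom.comp (algebraMap A₁ C₁) = algebraMap A₁ R from π.comp_algebraMap, ← Ideal.comap_comap,
      Ideal.comap_map_of_surjective π.toRingHom hπ, ← RingHom.ker_eq_comap_bot, sup_eq_left.2 hker]
    exact hP₁o.over.symm
  obtain ⟨c, hc, hc0⟩ : ∃ c : A₁, c ∉ p₁ ∧ algebraMap A₁ R c = 0 := by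
    by_contra hne
    push Not at hne
    obtain ⟨q, hq, -, hd⟩ := Ideal.exists_le_prime_disjoint (⊥ : Ideal R)
      (p₁.primeCompl.map (algebraMap A₁ R : A₁ →* R))
      (Set.disjoint_left.mpr fun x hx hx' => by
        obtain ⟨a, ha, rfl⟩ := hx'
        exact hne a ha hx)
    refine hempty q hq fun a ha => ?_
    by_contra hap
    exact Set.disjoint_left.mp hd ha (Submonoid.mem_map_of_mem _ (show a ∈ p₁.primeCompl from hap))
  -- finiteness over the bigger local ring
  let L := Localization.AtPrime p₁
  let j : (∀ i, F i) →ₗ[A₁] C₁ := ε.symm.toLinearMap ∘ₗ LinearMap.inl A₁ (∀ i, F i) R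
  have hjs : Function.Surjective (j.baseChange L) := by
    intro z
    induction z using TensorProduct.induction_on with
    | zero => exact ⟨0, map_zero _⟩
    | add a b ha hb =>
      obtain ⟨a', rfl⟩ := ha
      obtain ⟨b', rfl⟩ := hb
      exact ⟨a' + b', map_add _ _ _⟩
    | tmul l x =>
      obtain ⟨v, hv⟩ := IsLocalization.map_units L (⟨c, hc⟩ : p₁.primeCompl)
      refine ⟨(l * ↑v⁻¹) ⊗ₜ[A₁] (c • (ε x).1), ?_⟩
      have hj : j (c • (ε x).1) = c • x := by
        apply ε.injective
        show ε (ε.symm (LinearMap.inl A₁ (∀ i, F i) R (c • (ε x).1))) = ε (c • x)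
        rw [AlgEquiv.apply_symm_apply, map_smul ε c x]
        refine Prod.ext rfl ?_
        show (0 : R) = c • (ε x).2
        rw [Algebra.smul_def, hc0, zero_mul]
      rw [LinearMap.baseChange_tmul, hj, ← smul_tmul, Algebra.smul_def]
      congr 1
      rw [show algebraMap A₁ L c = ↑v from hv.symm, mul_left_comm, v.mul_inv, mul_one]
  haveI : ∀ i, Module.Finite A₁ (F i) := fun i => (hF i).1
  haveI : Module.Finite L (L ⊗[A₁] C₁) := Module.Finite.of_surjective (j.baseChange L) hjs
  haveI : Module.Finite L (L ⊗[A] C) :=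
    Module.Finite.equiv (AlgebraTensorModule.cancelBaseChange A A₁ L L C)
  -- descent
  let K := Localization.AtPrime p
  letI : Algebra K L := Localization.AtPrime.algebraOfLiesOver p p₁
  haveI : IsScalarTower A K L := IsScalarTower.of_algebraMap_eq fun a => by
    rw [IsScalarTower.algebraMap_apply A A₁ L]
    exact ((Localization.localRingHom_to_map p p₁ (algebraMap A A₁) (Ideal.over_def p₁ p) a)).symm
  haveI : IsLocalHom (algebraMap K L) := Localization.isLocalHom_localRingHom p p₁ (algebraMap A A₁) _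
  haveI : Module.Flat A L := Module.Flat.trans A A₁ L
  haveI : Module.Flat K L := (Module.flat_iff_of_isLocalization K p.primeCompl L).2 inferInstance
  haveI : Module.FaithfullyFlat K L := Module.FaithfullyFlat.of_flat_of_isLocalHom
  haveI : Module.Finite L (L ⊗[K] (K ⊗[A] C)) :=
    Module.Finite.equiv (AlgebraTensorModule.cancelBaseChange A K L L C).symm
  exact Module.Finite.of_finite_tensorProduct_of_faithfullyFlat L

theorem isIntegral_multiple {p : Ideal A} [p.IsPrime]
    (h : Module.Finite (Localization.AtPrime p) (Localization.AtPrime p ⊗[A] C)) (x : C) :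
    ∃ a ∉ p, IsIntegral A (a • x) := by
  let K := Localization.AtPrime p
  obtain ⟨m, P, hPm, hP⟩ := IsIntegral.exists_multiple_integral_of_isLocalization p.primeCompl
    ((1 : K) ⊗ₜ[A] x : K ⊗[A] C) (Algebra.IsIntegral.isIntegral (R := K) _)
  have h0 : (TensorProduct.mk A K C 1) (Polynomial.aeval ((m : A) • x) P) = 0 := by
    show (Algebra.TensorProduct.includeRight : C →ₐ[A] K ⊗[A] C) (Polynomial.aeval ((m : A) • x) P) = 0
    rw [← Polynomial.aeval_algHom_apply, map_smul]
    exact hP
  obtain ⟨s, hs⟩ := (IsLocalizedModule.eq_zero_iff p.primeCompl (TensorProduct.mk A K C 1)).1 h0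
  refine ⟨(s : A) * m, p.primeCompl.mul_mem s.2 m.2, ?_⟩
  rw [mul_smul]
  by_cases hd : P.natDegree = 0
  · rw [Polynomial.eq_one_of_monic_natDegree_zero hPm hd, map_one] at hs
    have : (s : A) • ((m : A) • x) = 0 := by
      rw [show ((m : A) • x) = 1 * ((m : A) • x) from (one_mul _).symm, ← smul_mul_assoc,
        show (s : A) • (1 : C) = 0 from hs, zero_mul]
    rw [this]
    exact isIntegral_zero
  · refine ⟨P.scaleRoots s, (Polynomial.monic_scaleRoots_iff _).2 hPm, ?_⟩
    rw [Algebra.smul_def]
    show Polynomial.eval₂ (algebraMap A C) (algebraMap A C (s : A) * ((m : A) • x)) (P.scaleRoots s) = 0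
    rw [Polynomial.scaleRoots_eval₂_mul]
    obtain ⟨k, hk⟩ := Nat.exists_eq_succ_of_ne_zero hd
    rw [hk, pow_succ, mul_assoc, show algebraMap A C (s : A) * Polynomial.eval₂ (algebraMap A C) ((m : A) • x) P = 0 by
      rw [← Algebra.smul_def]; exact hs, mul_zero]

/-- A faithful pure module over a quasi-finite algebra: the algebra is finite. -/
theorem finite_of_pure (hN : Module.annihilator C N = ⊥) (hpure : FlatCA.IsPure A C N) : Module.Finite A C := by
  have hint : Algebra.IsIntegral A C := ⟨fun x => by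
    let J : Ideal A := (integralClosure A C).toSubmodule.comap (LinearMap.toSpanSingleton A C x)
    suffices h : (1 : A) ∈ J by simpa [J, mem_integralClosure_iff] using h
    by_contra h1
    obtain ⟨M, hM, hJM⟩ := Ideal.exists_le_maximal J (fun h => h1 (h ▸ Submodule.mem_top))
    haveI := hM.isPrime
    obtain ⟨a, ha, hax⟩ := isIntegral_multiple (finite_localized_of_pure hN M (hpure M)) x
    exact ha (hJM (show a ∈ J from hax))⟩
  exact Algebra.IsIntegral.finite

end Groth.Agent.FlatCrit65.Purity
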