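import Groth.Agent.FlatMor66.RelAssLocus
import Groth.Agent.FlatMor67.CountProj
import Groth.Agent.FlatMor67.MLDescent
import Groth.Agent.FlatMor67.PurePush
import Groth.Agent.FlatCrit65.Closed.HensAss
import Groth.Agent.FlatCrit65.Complete.ProjectiveComplete
import Groth.Agent.S1192
import Mathlib

/-!
A flat finitely presented module which embeds in a projective module by an étale chart containing the
associated points of the fibres near a point is projective near that point.
-/

set_option autoImplicit false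
set_option linter.style.haveILetI false
set_option linter.unusedSectionVars false

universe u

open TensorProduct

namespace Groth.Agent.FlatCrit65.Purity

section Chart

variable {R T U : Type u} [CommRing R] [CommRing T] [CommRing U] [Algebra R T] [Algebra.FinitePresentation R T]
  [Algebra T U] [Algebra R U] [IsScalarTower R T U] [Algebra.Etale T U]
  (M : Type u) [AddCommGroup M] [Module T M] [Module R M] [IsScalarTower R T M] [Module.FinitePresentation T M]
  [Module.Flat R M] (p : Ideal R) [p.IsPrime]

/-- Associated points of fibres near `p` lie in the image of the chart. -/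
theorem exists_away_ass_mem_range
    (hcov : ∀ (t : Ideal R) [t.IsPrime], t ≤ p → ∀ (Q : Ideal T) [Q.IsPrime], Q.LiesOver t →
      FlatCA.fiberIdeal t Q ∈ associatedPrimes (t.Fiber T) (FlatCA.fiberMod t T M) →
      ∃ Q' : Ideal U, Q'.IsPrime ∧ Q'.comap (algebraMap T U) = Q) :
    ∃ f : R, f ∉ p ∧ ∀ (t : Ideal R) [t.IsPrime], f ∉ t → ∀ (Q : Ideal T) [Q.IsPrime], Q.LiesOver t →
      FlatCA.fiberIdeal t Q ∈ associatedPrimes (t.Fiber T) (FlatCA.fiberMod t T M) →
      ∃ Q' : Ideal U, Q'.IsPrime ∧ Q'.comap (algebraMap T U) = Q := by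
  classical
  let W : Set (PrimeSpectrum T) := Set.range (PrimeSpectrum.comap (algebraMap T U))
  have hWo : IsOpen W :=
    (PrimeSpectrum.isOpenMap_comap_of_hasGoingDown_of_finitePresentation (R := T) (S := U)).isOpen_range
  have hWc : IsCompact W := isCompact_range (PrimeSpectrum.continuous_comap _)
  obtain ⟨I, ⟨G, hG⟩, hI⟩ := PrimeSpectrum.isCompact_isOpen_iff_ideal.1 ⟨hWc, hWo⟩
  subst hG
  let g : G → T := Subtype.val
  have hW : ∀ (Q : Ideal T) [Q.IsPrime],
      (∃ Q' : Ideal U, Q'.IsPrime ∧ Q'.comap (algebraMap T U) = Q) ↔ ¬ ∀ i, g i ∈ Q := fun Q hQ => by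
    have h1 : (⟨Q, hQ⟩ : PrimeSpectrum T) ∈ W ↔ ¬ ∀ i, g i ∈ Q := by
      rw [← hI, Set.mem_compl_iff, PrimeSpectrum.mem_zeroLocus, SetLike.coe_subset_coe, Ideal.span_le]
      exact not_congr ⟨fun h i => h i.2, fun h x hx => h ⟨x, hx⟩⟩
    refine Iff.trans ?_ h1
    constructor
    · rintro ⟨Q', hQ', h⟩
      exact ⟨⟨Q', hQ'⟩, PrimeSpectrum.ext h⟩
    · rintro ⟨Q', h⟩
      exact ⟨Q'.asIdeal, Q'.isPrime, congrArg PrimeSpectrum.asIdeal h⟩
  let L := FlatMor66.RelAssLocus.injLocus (FlatMor66.RelAssLocus.fam (A := R) g M)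
  have hL : Topology.IsConstructible L := FlatMor66.RelAssLocus.isConstructible_injLocus g
  obtain ⟨D, _, φ, hφ⟩ := PrimeSpectrum.exists_range_eq_of_isConstructible hL.compl
  -- generalisations of `p` are in the locus
  have hgen : ∀ (t : PrimeSpectrum R), t.asIdeal ≤ p → t ∈ L := fun t ht => by
    refine (FlatMor66.RelAssLocus.mem_injLocus_fam_iff g t).2 fun P hP hall => ?_
    haveI := hP.isPrime
    let Q : Ideal T := P.comap (Algebra.TensorProduct.includeRight (R := R) (A := t.asIdeal.ResidueField) (B := T)).toRingHom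
    have hQP : FlatCA.fiberIdeal t.asIdeal Q = P := FlatMor67.PurePush.fiberIdeal_comap t.asIdeal P
    have hQo : Q.LiesOver t.asIdeal := ((PrimeSpectrum.primesOverOrderIsoFiber R T t.asIdeal).symm ⟨P, inferInstance⟩).2.2
    exact (hW Q).1 (hcov t.asIdeal ht Q hQo (hQP.symm ▸ hP)) hall
  obtain ⟨f, hf, hfD⟩ : ∃ f, f ∉ p ∧ φ f = 0 := by
    by_contra hne
    push Not at hne
    have hdis : Disjoint ((⊥ : Ideal D) : Set D) ((p.primeCompl.map φ : Submonoid D) : Set D) := by
      rw [Set.disjoint_left]
      rintro x hx ⟨f, hf, rfl⟩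
      exact hne f hf hx
    obtain ⟨P, hP, -, hPd⟩ := Ideal.exists_le_prime_disjoint _ _ hdis
    let x : PrimeSpectrum D := ⟨P, hP⟩
    have hx : PrimeSpectrum.comap φ x ∈ Lᶜ := hφ ▸ ⟨x, rfl⟩
    refine hx (hgen _ fun r hr => ?_)
    by_contra hrp
    exact Set.disjoint_left.1 hPd hr ⟨r, hrp, rfl⟩
  refine ⟨f, hf, fun t _ hft Q _ hQo hass => (hW Q).2 fun hall => ?_⟩
  have ht : (⟨t, inferInstance⟩ : PrimeSpectrum R) ∈ L := by
    by_contra hnot
    obtain ⟨x, hx⟩ : (⟨t, inferInstance⟩ : PrimeSpectrum R) ∈ Set.range (PrimeSpectrum.comap φ) := hφ ▸ hnot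
    refine hft ((congrArg PrimeSpectrum.asIdeal hx).le ?_)
    show φ f ∈ x.asIdeal
    rw [hfD]
    exact Ideal.zero_mem _
  exact (FlatMor66.RelAssLocus.mem_injLocus_fam_iff g ⟨t, inferInstance⟩).1 ht _ hass fun i => Ideal.mem_map_of_mem _ (hall i)

/-- Universal injectivity of the chart map over the modules on which `f` is invertible. -/
theorem rTensor_chart_injective {f : R}
    (hf : ∀ (t : Ideal R) [t.IsPrime], f ∉ t → ∀ (Q : Ideal T) [Q.IsPrime], Q.LiesOver t →
      FlatCA.fiberIdeal t Q ∈ associatedPrimes (t.Fiber T) (FlatCA.fiberMod t T M) →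
      ∃ Q' : Ideal U, Q'.IsPrime ∧ Q'.comap (algebraMap T U) = Q)
    (X : Type u) [AddCommGroup X] [Module R X] (hX : Function.Bijective fun x : X => f • x) :
    Function.Injective (((TensorProduct.mk T U M 1).restrictScalars R).rTensor X) := by
  rw [injective_iff_map_eq_zero]
  intro x hx
  by_contra hx0
  have h1 : ∀ z : M ⊗[R] X, TensorProduct.AlgebraTensorModule.assoc R T U U M X
      (((TensorProduct.mk T U M 1).restrictScalars R).rTensor X z) = (1 : U) ⊗ₜ[T] z := fun z => by
    induction z using TensorProduct.induction_on with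
    | zero => simp
    | tmul m q => rfl
    | add a b ha hb => rw [map_add, map_add, ha, hb, TensorProduct.tmul_add]
  have hx1 : (1 : U) ⊗ₜ[T] x = 0 := by rw [← h1 x, hx, map_zero]
  obtain ⟨P, hP⟩ := Ideal.nonempty_minimalPrimes (I := (Submodule.span T {x}).annihilator) fun htop => hx0 (by
    have := Submodule.mem_annihilator.1 (htop ▸ trivial : (1 : T) ∈ (Submodule.span T {x}).annihilator) x
      (Submodule.mem_span_singleton_self x)
    rwa [one_smul] at this)
  haveI := hP.1.1
  have hann : ∀ s : T, s • x = 0 → s ∈ P := fun s hs => hP.1.2 (by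
    rw [Submodule.mem_annihilator_span_singleton]
    exact hs)
  let t : Ideal R := P.under R
  haveI : P.LiesOver t := ⟨rfl⟩
  have hass := (S1192.result M X t P).1 ⟨x, hP⟩
  obtain ⟨y, hy1, hy2⟩ := CAlg5.mem_weakAss_iff.1 hass.1
  have hft : f ∉ t := fun hft => by
    obtain ⟨s, hs, n, hn⟩ := hy2 f hft
    have hinj : ∀ k : ℕ, Function.Injective fun z : X => f ^ k • z := fun k => by
      induction k with
      | zero => intro a b h; simpa using h
      | succ k ih =>
        intro a b h
        refine hX.1 (ih ?_)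
        simpa [pow_succ, mul_smul] using h
    refine hs (hy1 s (hinj n ?_))
    show f ^ n • (s • y) = f ^ n • (0 : X)
    rw [smul_zero, smul_smul, mul_comm, hn]
  obtain ⟨Q', hQ', hQ'P⟩ := hf t hft P ⟨rfl⟩ hass.2
  obtain ⟨s, hs, hsx⟩ := FlatCrit65.exists_smul_eq_zero_of_tmul_one Q' x hx1
  exact hs (hQ'P.symm ▸ hann s hsx)

/-- A chart onto the associated points makes the module projective after inverting one element. -/
theorem exists_projective_away_of_chart
    (hcov : ∀ (t : Ideal R) [t.IsPrime], t ≤ p → ∀ (Q : Ideal T) [Q.IsPrime], Q.LiesOver t →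
      FlatCA.fiberIdeal t Q ∈ associatedPrimes (t.Fiber T) (FlatCA.fiberMod t T M) →
      ∃ Q' : Ideal U, Q'.IsPrime ∧ Q'.comap (algebraMap T U) = Q)
    [Module.Projective R (U ⊗[T] M)] :
    ∃ f : R, f ∉ p ∧ Module.Projective (Localization.Away f) (Localization.Away f ⊗[R] M) := by
  obtain ⟨f, hfp, hf⟩ := exists_away_ass_mem_range M p hcov
  refine ⟨f, hfp, ?_⟩
  let R' := Localization.Away f
  let μ : M →ₗ[R] U ⊗[T] M := (TensorProduct.mk T U M 1).restrictScalars R
  have huniv : CAlgX.UniversallyInjective R' (μ.baseChange R') := by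
    intro X _ _
    letI : Module R X := Module.compHom X (algebraMap R R')
    haveI : IsScalarTower R R' X := IsScalarTower.of_algebraMap_smul fun _ _ => rfl
    have hX : Function.Bijective fun x : X => f • x := by
      have hu : IsUnit (algebraMap R R' f) := IsLocalization.Away.algebraMap_isUnit f
      have heq : (fun x : X => f • x) = fun x : X => algebraMap R R' f • x := funext fun x => (algebraMap_smul R' f x).symm
      rw [heq]
      refine Function.bijective_iff_has_inverse.2 ⟨fun x => (hu.unit⁻¹ : R'ˣ) • x, fun x => ?_, fun x => ?_⟩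
      · show ((hu.unit⁻¹ : R'ˣ) : R') • (algebraMap R R' f • x) = x
        rw [smul_smul, IsUnit.val_inv_mul, one_smul]
      · show algebraMap R R' f • (((hu.unit⁻¹ : R'ˣ) : R') • x) = x
        rw [smul_smul, IsUnit.mul_val_inv, one_smul]
    let eq' : ∀ (Z : Type u) [AddCommGroup Z] [Module R Z], (R' ⊗[R] Z) ⊗[R'] X ≃+ Z ⊗[R] X := fun Z _ _ =>
      ((TensorProduct.comm R' (R' ⊗[R] Z) X).toAddEquiv.trans
        (TensorProduct.AlgebraTensorModule.cancelBaseChange R R' R' X Z).toAddEquiv).trans
        (TensorProduct.comm R X Z).toAddEquiv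
    have hcomm : ∀ z, eq' (U ⊗[T] M) ((μ.baseChange R').rTensor X z) = μ.rTensor X (eq' M z) := fun z => by
      induction z using TensorProduct.induction_on with
      | zero => simp
      | tmul w q =>
        induction w using TensorProduct.induction_on with
        | zero => simp
        | tmul r m =>
          show TensorProduct.comm R X _ ((r • q) ⊗ₜ[R] μ m) = μ.rTensor X (TensorProduct.comm R X M ((r • q) ⊗ₜ[R] m))
          simp
        | add a b ha hb => simp only [TensorProduct.add_tmul, map_add, ha, hb]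
      | add a b ha hb => simp only [map_add, ha, hb]
    intro a b hab
    apply (eq' M).injective
    apply rTensor_chart_injective M hf X hX
    show μ.rTensor X (eq' M a) = μ.rTensor X (eq' M b)
    rw [← hcomm, ← hcomm, hab]
  have hml : CAlg.IsMittagLeffler R' (R' ⊗[R] M) :=
    ML3.ml_of_univInj _ huniv (FlatMor67.ml_of_projective _)
  haveI : Module.Finite T M := inferInstance
  obtain ⟨s, hs, hspan⟩ := FlatCrit65.countablyGenerated_of_finiteType R T M
  refine FlatMor67.projective_of_flat_ml_countable _ hml ⟨(fun m => (1 : R') ⊗ₜ[R] m) '' s, hs.image _, ?_⟩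
  rw [eq_top_iff]
  rintro z -
  induction z using TensorProduct.induction_on with
  | zero => exact Submodule.zero_mem _
  | tmul r m =>
    have hm : m ∈ Submodule.span R s := hspan ▸ trivial
    have h2 : (1 : R') ⊗ₜ[R] m ∈ Submodule.span R' ((fun m => (1 : R') ⊗ₜ[R] m) '' s) := by
      induction hm using Submodule.span_induction with
      | mem x hx => exact Submodule.subset_span ⟨x, hx, rfl⟩
      | zero => simp
      | add x y _ _ hx hy => rw [TensorProduct.tmul_add]; exact add_mem hx hy
      | smul c x _ hx => rw [TensorProduct.tmul_smul]; exact Submodule.smul_of_tower_mem _ c hx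
    simpa [TensorProduct.smul_tmul'] using Submodule.smul_mem _ r h2
  | add a b ha hb => exact add_mem ha hb

end Chart

end Groth.Agent.FlatCrit65.Purity
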