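import Groth.Agent.RG29.ProjCover
import Groth.Agent.FlatCrit65.Purity.ProjAway
import Groth.Agent.FlatMor67.ProjPure
import Mathlib

/-!
A flat finitely presented module, pure along a fibre, becomes projective after an étale base change around the point.
-/

set_option autoImplicit false
set_option linter.style.haveILetI false
set_option linter.unusedSectionVars false

universe u

open TensorProduct

namespace Groth.Agent.FlatCrit65.Purity

set_option maxHeartbeats 800000 in
/-- Projectivity after étale localization along the fibre, with covering points over the chosen point. -/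
theorem exists_projective_cover_over {R S : Type u} [CommRing R] [CommRing S] [Algebra R S] [Algebra.FinitePresentation R S]
    (N : Type u) [AddCommGroup N] [Module S N] [Module R N] [IsScalarTower R S N] [Module.FinitePresentation S N]
    [Module.Flat R N] (p : Ideal R) [p.IsPrime] :
    ∃ (R' S' : Type u) (_ : CommRing R') (_ : CommRing S') (_ : Algebra R R') (_ : Algebra S S') (_ : Algebra R' S')
      (_ : Algebra R S') (_ : IsScalarTower R R' S') (_ : IsScalarTower R S S')
      (p' : Ideal R') (_ : p'.IsPrime),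
      FlatCA.IsEtaleNhd R R' p p' ∧ Algebra.Etale S S' ∧
      (∀ (q : Ideal S) [q.IsPrime], q.LiesOver p → ∃ q' : Ideal S', q'.IsPrime ∧ q'.LiesOver p' ∧ q'.comap (algebraMap S S') = q) ∧
      Module.Projective R' (RestrictScalars R' S' (S' ⊗[S] N)) := by
  classical
  obtain ⟨R', _, _, p', _, hn, k, C, _, _, _, _, hRR, hRS, Nc, _, _, _, hSC, gc, hmain, hcov⟩ :=
    RG29.exists_flat_devissage_cover (R := R) (S := S) N p
  obtain ⟨het, hpp, hbp⟩ := hn
  haveI := het; haveI := hpp
  haveI := fun i => (hmain i).1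
  letI : ∀ i, Module R' (Nc i) := fun i => Module.compHom (Nc i) (algebraMap R' (C i))
  haveI : ∀ i, IsScalarTower R' (C i) (Nc i) := fun i => IsScalarTower.of_algebraMap_smul fun _ _ => rfl
  choose fi hfi hpi using fun i => RG29.chart_projective_away (R := R) N (hmain i).2.1 p' (hmain i).2.2
  let f := ∏ i, fi i
  have hf : f ∉ p' := fun h => by
    obtain ⟨i, -, hi⟩ := (‹p'.IsPrime›.prod_mem_iff).1 h
    exact hfi i hi
  let R'' := Localization.Away f
  haveI : ∀ i, Module.Projective R'' (R'' ⊗[R'] Nc i) := fun i => by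
    haveI := hpi i
    exact RG29.projective_away_of_dvd (Finset.dvd_prod_of_mem fi (Finset.mem_univ i))
  have hd : Disjoint (Submonoid.powers f : Set R') (p' : Set R') :=
    (Ideal.disjoint_powers_iff_notMem_of_isPrime _).2 hf
  let p'' : Ideal R'' := p'.map (algebraMap R' R'')
  haveI : p''.IsPrime := IsLocalization.isPrime_of_isPrime_disjoint (Submonoid.powers f) R'' p' ‹_› hd
  haveI hpp' : p''.LiesOver p' :=
    ⟨(IsLocalization.under_map_of_isPrime_disjoint (Submonoid.powers f) R'' ‹p'.IsPrime› hd).symm⟩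
  haveI : Algebra.Etale R' R'' := Algebra.Etale.of_isLocalizationAway f
  have hb'' := (RingHom.surjectiveOnStalks_of_isLocalization (Submonoid.powers f) R'').residueFieldMap_bijective
  have hn'' : FlatCA.IsEtaleNhd R R'' p p'' := RG29.isEtaleNhd_trans ⟨het, hpp, hbp⟩ ⟨inferInstance, hpp', hb'' _ _ _⟩
  letI : ∀ i, Algebra R'' (C i ⊗[R'] R'') := fun i => Algebra.TensorProduct.rightAlgebra
  haveI : ∀ i, Algebra.Etale S (C i ⊗[R'] R'') := fun i => Algebra.Etale.comp S (C i) (C i ⊗[R'] R'')
  haveI : ∀ i, IsScalarTower R R'' (C i ⊗[R'] R'') := fun i => IsScalarTower.of_algebraMap_eq fun x => by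
    show algebraMap R (C i) x ⊗ₜ[R'] (1 : R'') = (1 : C i) ⊗ₜ[R'] algebraMap R R'' x
    rw [IsScalarTower.algebraMap_apply R R' (C i), IsScalarTower.algebraMap_apply R R' R'']
    generalize algebraMap R R' x = r
    rw [Algebra.algebraMap_eq_smul_one, Algebra.algebraMap_eq_smul_one, TensorProduct.smul_tmul]
  haveI : ∀ i, SMulCommClass S R'' (C i ⊗[R'] R'') := fun i => ⟨fun s r x => by
    rw [Algebra.smul_def r x, Algebra.smul_def r (s • x)]
    exact (mul_smul_comm s _ x).symm⟩
  haveI : ∀ i, SMulCommClass R'' S (C i ⊗[R'] R'') := fun i => SMulCommClass.symm _ _ _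
  haveI : ∀ i, Module.Projective R'' ((C i ⊗[R'] R'') ⊗[S] N) := fun i => RG29.chart_projective_baseChange N (hmain i).2.1
  refine ⟨R'', ∀ i, C i ⊗[R'] R'', inferInstance, inferInstance, inferInstance, inferInstance, inferInstance, inferInstance,
    inferInstance, inferInstance, p'', inferInstance, hn'', inferInstance, fun q _ hq => ?_,
    RG29.projective_restrictScalars_pi (fun i => C i ⊗[R'] R'') N⟩
  obtain ⟨i, Q', hQ', hQ'o, hQ'S⟩ := hcov q hq
  haveI := hQ'; haveI := hQ'o
  obtain ⟨Q'', hQ''p, hQ''o, hQ''Q⟩ := RG29.pushout_exists_prime (R := R') (S := C i) (R' := R'') (S' := C i ⊗[R'] R'')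
    (p := p') (p' := p'') (hb'' _ _ _) Q'
  haveI := hQ''p
  refine ⟨Q''.comap (Pi.evalRingHom (fun i => C i ⊗[R'] R'') i), inferInstance, ⟨?_⟩, ?_⟩
  · rw [Ideal.under_def, Ideal.comap_comap]
    exact hQ''o.over
  rw [Ideal.comap_comap]
  show Q''.comap (algebraMap S (C i ⊗[R'] R'')) = q
  rw [IsScalarTower.algebraMap_eq S (C i) (C i ⊗[R'] R''), ← Ideal.comap_comap]
  exact (congrArg (Ideal.comap (algebraMap S (C i))) hQ''Q.over.symm).trans hQ'S

set_option maxHeartbeats 800000 in
/-- Projectivity on an étale neighbourhood of a point of purity. -/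
theorem exists_projective_nhd {A B : Type u} [CommRing A] [CommRing B] [Algebra A B] [Algebra.FinitePresentation A B]
    (N : Type u) [AddCommGroup N] [Module B N] [Module A N] [IsScalarTower A B N] [Module.FinitePresentation B N]
    [Module.Flat A N] (p : Ideal A) [p.IsPrime] (hpure : FlatCA.IsPureAlong A B N p) :
    ∃ (R'' : Type u) (_ : CommRing R'') (_ : Algebra A R'') (p'' : Ideal R'') (_ : p''.IsPrime),
      Algebra.Etale A R'' ∧ p''.LiesOver p ∧ Module.Projective R'' (R'' ⊗[A] N) := by
  obtain ⟨R', S', _, _, _, _, _, _, hRR', hRS', p', _, hn, hetS, hcov, hproj⟩ :=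
    exists_projective_cover_over (R := A) (S := B) N p
  obtain ⟨het, hpp, hbp⟩ := hn
  haveI := het; haveI := hpp; haveI := hetS; haveI := hRR'; haveI := hRS'
  letI : Algebra R' (B ⊗[A] R') := Algebra.TensorProduct.rightAlgebra
  let BA := B ⊗[A] R'
  haveI : Algebra.IsPushout A B R' BA := inferInstance
  let φ : BA →ₐ[B] S' := Algebra.TensorProduct.lift (Algebra.ofId B S') (IsScalarTower.toAlgHom A R' S')
    (fun _ _ => Commute.all _ _)
  letI : Algebra BA S' := φ.toRingHom.toAlgebra
  haveI : IsScalarTower B BA S' := IsScalarTower.of_algebraMap_eq fun b => (φ.commutes b).symm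
  haveI : IsScalarTower R' BA S' := IsScalarTower.of_algebraMap_eq fun r => by
    show algebraMap R' S' r = φ ((1 : B) ⊗ₜ r)
    rw [Algebra.TensorProduct.lift_tmul, map_one, one_mul]
    rfl
  haveI : Algebra.Etale B BA := inferInstance
  haveI : Algebra.Etale BA S' := Algebra.Etale.of_restrictScalars B BA S'
  haveI : Algebra.FinitePresentation A BA := Algebra.FinitePresentation.trans A B BA
  haveI : Algebra.FinitePresentation R' BA := Algebra.FinitePresentation.of_restrict_scalars_finitePresentation A R' BA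
  haveI : SMulCommClass B R' BA := ⟨fun s r x => by
    rw [Algebra.smul_def r x, Algebra.smul_def r (s • x)]
    exact (mul_smul_comm s _ x).symm⟩
  haveI : SMulCommClass R' B BA := SMulCommClass.symm _ _ _
  let M := BA ⊗[B] N
  let eM : M ≃ₗ[R'] R' ⊗[A] N := Algebra.IsPushout.cancelBaseChange A R' B BA N
  haveI : Module.Flat R' M := Module.Flat.of_linearEquiv eM
  let eS : S' ⊗[BA] M ≃ₗ[S'] S' ⊗[B] N := TensorProduct.AlgebraTensorModule.cancelBaseChange B BA S' S' N
  let e' : S' ⊗[BA] M ≃ₗ[R'] RestrictScalars R' S' (S' ⊗[B] N) :=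
    { eS.toAddEquiv.trans (RestrictScalars.addEquiv R' S' (S' ⊗[B] N)).symm with
      map_smul' := fun c z => by
        show (RestrictScalars.addEquiv R' S' (S' ⊗[B] N)).symm (eS (c • z)) =
          c • (RestrictScalars.addEquiv R' S' (S' ⊗[B] N)).symm (eS z)
        rw [← algebraMap_smul S' c z, eS.map_smul]
        exact RestrictScalars.addEquiv_symm_map_algebraMap_smul R' S' (S' ⊗[B] N) c _ }
  haveI := hproj
  haveI : Module.Projective R' (S' ⊗[BA] M) := Module.Projective.of_equiv e'.symm
  obtain ⟨f, hf, hP⟩ := exists_projective_away_of_chart (R := R') (T := BA) (U := S') M p'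
    fun t _ ht Q _ hQo hass => by
      haveI := hQo
      obtain ⟨P, hP, hQP, hPo⟩ : ∃ P : Ideal BA, P.IsPrime ∧ Q ≤ P ∧ P.LiesOver p' := by
        by_contra hne
        push Not at hne
        exact hpure R' BA M (TensorProduct.mk B BA N 1) t p' Q ⟨het, hpp, hbp⟩
          ⟨inferInstance, TensorProduct.isBaseChange B N BA, ht, hpp, hQo, hass, fun P hP hle => hne P hP hle⟩
      haveI := hP; haveI := hPo
      haveI : (P.under B).LiesOver p := ⟨by
        rw [Ideal.over_def p' p, Ideal.over_def P p', Ideal.under_under, Ideal.under_under]⟩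
      obtain ⟨q', hq', hq'o, hq'B⟩ := hcov (P.under B) inferInstance
      haveI := hq'; haveI := hq'o
      haveI : (q'.under BA).LiesOver p' := ⟨by rw [Ideal.over_def q' p', Ideal.under_under]⟩
      have heq : q'.under BA = P := RG29.pushout_prime_le (R := A) (S := B) (R' := R') (S' := BA) (p := p) (p' := p')
        hbp (q'.under BA) P (by rw [Ideal.under_under]; exact hq'B)
      haveI : q'.LiesOver P := ⟨heq.symm⟩
      obtain ⟨Q', -, hQ', hQ'o⟩ := Ideal.exists_ideal_le_liesOver_of_le (R := BA) (p := Q) (q := P) q' hQP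
      exact ⟨Q', hQ', hQ'o.over.symm⟩
  let R'' := Localization.Away f
  have hd : Disjoint (Submonoid.powers f : Set R') (p' : Set R') :=
    (Ideal.disjoint_powers_iff_notMem_of_isPrime _).2 hf
  let p'' : Ideal R'' := p'.map (algebraMap R' R'')
  haveI : p''.IsPrime := IsLocalization.isPrime_of_isPrime_disjoint (Submonoid.powers f) R'' p' ‹_› hd
  haveI hpp' : p''.LiesOver p' :=
    ⟨(IsLocalization.under_map_of_isPrime_disjoint (Submonoid.powers f) R'' ‹p'.IsPrime› hd).symm⟩
  haveI : Algebra.Etale R' R'' := Algebra.Etale.of_isLocalizationAway f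
  haveI := hP
  refine ⟨R'', inferInstance, inferInstance, p'', inferInstance, Algebra.Etale.comp A R' R'', Ideal.LiesOver.trans p'' p' p,
    Module.Projective.of_equiv ((LinearEquiv.baseChange R' R'' _ _ eM).trans
      (TensorProduct.AlgebraTensorModule.cancelBaseChange A R' R'' R'' N))⟩

end Groth.Agent.FlatCrit65.Purity
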