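import Groth.Agent.FlatCrit65.Purity.ProjNhd
import Groth.Agent.FlatMor67.ProjDescent
import Groth.Agent.S1217
import Mathlib

/-!
The pure locus of a flat finitely presented module is open; pure on all of the base means projective.
-/

set_option autoImplicit false
set_option linter.style.haveILetI false
set_option linter.unusedSectionVars false

universe u

open TensorProduct

namespace Groth.Agent.FlatCrit65.Purity

/-- A module over an algebra projective over the base algebra, projective over the base. -/
theorem projective_trans {P S : Type u} [CommRing P] [CommRing S] [Algebra P S] [Module.Projective P S]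
    (M : Type u) [AddCommGroup M] [Module P M] [Module S M] [IsScalarTower P S M] [Module.Projective S M] :
    Module.Projective P M := by
  classical
  obtain ⟨s, hs⟩ := Module.projective_def'.1 (inferInstance : Module.Projective S M)
  haveI : Module.Projective P (M →₀ S) := Module.Projective.of_equiv (finsuppLequivDFinsupp P).symm
  exact Module.Projective.of_split (s.restrictScalars P) ((Finsupp.linearCombination S (id : M → M)).restrictScalars P)
    (LinearMap.ext fun x => LinearMap.congr_fun hs x)

/-- Projectivity over finitely many algebras gives projectivity over their product. -/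
theorem projective_pi {A : Type u} [CommRing A] (N : Type u) [AddCommGroup N] [Module A N] {k : ℕ} (R : Fin k → Type u)
    [∀ i, CommRing (R i)] [∀ i, Algebra A (R i)] [∀ i, Module.Projective (R i) (R i ⊗[A] N)] :
    Module.Projective (∀ i, R i) ((∀ i, R i) ⊗[A] N) := by
  classical
  let e : (∀ i, R i) ⊗[A] N → ∀ i, R i ⊗[A] N := TensorProduct.piLeft A N R
  letI : ∀ i, Algebra (∀ i, R i) (R i) := fun i => (Pi.evalRingHom R i).toAlgebra
  haveI : ∀ i, IsScalarTower A (∀ i, R i) (R i) := fun i => IsScalarTower.of_algebraMap_eq fun _ => rfl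
  haveI : ∀ i, Module.Projective (∀ i, R i) (R i) := fun i => Module.Projective.of_split
    ({ toFun := fun x => Pi.single i x
       map_add' := fun x y => Pi.single_add i x y
       map_smul' := fun c x => by
         funext j
         obtain rfl | hj := eq_or_ne j i
         · simp [Algebra.smul_def, RingHom.algebraMap_toAlgebra]
         · simp [hj] } : R i →ₗ[∀ i, R i] ∀ i, R i)
    ({ toFun := fun x => x i
       map_add' := fun _ _ => rfl
       map_smul' := fun c x => rfl } : (∀ i, R i) →ₗ[∀ i, R i] R i)
    (LinearMap.ext fun x => Pi.single_eq_same i x)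
  haveI : ∀ i, SMulCommClass A (∀ i, R i) (R i) := fun i => ⟨fun a c x => by
    rw [Algebra.smul_def c x, Algebra.smul_def c (a • x), mul_smul_comm]⟩
  haveI : ∀ i, Module.Projective (∀ i, R i) (R i ⊗[A] N) := fun i => projective_trans (S := R i) _
  haveI : Module.Projective (∀ i, R i) (∀ i, R i ⊗[A] N) := Module.Projective.of_equiv
    (DFinsupp.linearEquivFunOnFintype (R := ∀ i, R i) (M := fun i => R i ⊗[A] N))
  refine Module.Projective.of_equiv (LinearEquiv.symm
    ({ TensorProduct.piLeft A N R with
      map_smul' := fun c z => by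
        show TensorProduct.piLeft A N R (c • z) = c • TensorProduct.piLeft A N R z
        induction z using TensorProduct.induction_on with
        | zero => simp
        | tmul s n =>
          funext i
          simp [TensorProduct.piLeft, TensorProduct.smul_tmul']
        | add a b ha hb => simp only [smul_add, map_add, ha, hb] } :
      (∀ i, R i) ⊗[A] N ≃ₗ[∀ i, R i] ∀ i, R i ⊗[A] N))

variable {A B : Type u} [CommRing A] [CommRing B] [Algebra A B]
  (N : Type u) [AddCommGroup N] [Module B N] [Module A N] [IsScalarTower A B N]

/-- Projectivity after a flat base change gives universal purity along the points below. -/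
theorem isUnivPureAlong_of_projective_baseChange [Algebra.FiniteType A B] [Module.Finite B N]
    {R : Type u} [CommRing R] [Algebra A R] [Module.Flat A R] [Module.Projective R (R ⊗[A] N)]
    (x : Ideal R) [x.IsPrime] (p : Ideal A) [p.IsPrime] [x.LiesOver p] : FlatCA.IsUnivPureAlong A B N p := by
  letI : Algebra R (B ⊗[A] R) := Algebra.TensorProduct.rightAlgebra
  haveI : SMulCommClass B R (B ⊗[A] R) := ⟨fun s r z => by
    rw [Algebra.smul_def r z, Algebra.smul_def r (s • z)]
    exact (mul_smul_comm s _ z).symm⟩
  haveI : SMulCommClass R B (B ⊗[A] R) := SMulCommClass.symm _ _ _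
  haveI : Module.Projective R ((B ⊗[A] R) ⊗[B] N) :=
    Module.Projective.of_equiv (Algebra.IsPushout.cancelBaseChange A R B (B ⊗[A] R) N).symm
  haveI : Module.Flat A (Localization.AtPrime x) := Module.Flat.trans A R _
  exact (S1217.result N p R (B ⊗[A] R) ((B ⊗[A] R) ⊗[B] N) (TensorProduct.mk B (B ⊗[A] R) N 1)
    (TensorProduct.isBaseChange B N _) x).2 (FlatMor67.ProjPure.isUnivPure_of_projective _ x)

variable [Algebra.FinitePresentation A B] [Module.FinitePresentation B N] [Module.Flat A N]

/-- Around a point of purity: an open set of points which lift to an étale algebra making the module projective. -/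
theorem exists_open_projective (p : PrimeSpectrum A) (hp : FlatCA.IsPureAlong A B N p.asIdeal) :
    ∃ (R : Type u) (_ : CommRing R) (_ : Algebra A R), Algebra.Etale A R ∧ Module.Projective R (R ⊗[A] N) ∧
      IsOpen (Set.range (PrimeSpectrum.comap (algebraMap A R))) ∧ p ∈ Set.range (PrimeSpectrum.comap (algebraMap A R)) := by
  obtain ⟨R, _, _, x, hx, het, hxp, hproj⟩ := exists_projective_nhd N p.asIdeal hp
  haveI := het
  exact ⟨R, inferInstance, inferInstance, het, hproj,
    (PrimeSpectrum.isOpenMap_comap_of_hasGoingDown_of_finitePresentation (R := A) (S := R)).isOpen_range,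
    ⟨⟨x, hx⟩, PrimeSpectrum.ext hxp.over.symm⟩⟩

/-- The pure locus is open. -/
theorem isOpen_pureLocus : IsOpen {p : PrimeSpectrum A | FlatCA.IsPureAlong A B N p.asIdeal} := by
  refine isOpen_iff_forall_mem_open.2 fun p hp => ?_
  obtain ⟨R, _, _, het, hproj, ho, hmem⟩ := exists_open_projective N p hp
  haveI := het
  haveI := hproj
  refine ⟨_, ?_, ho, hmem⟩
  rintro _ ⟨x, rfl⟩
  haveI : x.asIdeal.LiesOver (PrimeSpectrum.comap (algebraMap A R) x).asIdeal := ⟨rfl⟩
  intro A' B' N' _ _ _ _ _ _ _ _ _ _ _ _ _ _ f t' t _ _ P _ _
  exact isUnivPureAlong_of_projective_baseChange N x.asIdeal (PrimeSpectrum.comap (algebraMap A R) x).asIdeal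
    A' B' N' f t' t P

/-- Purity along all fibres gives projectivity. -/
theorem projective_of_isPure (h : FlatCA.IsPure A B N) : Module.Projective A N := by
  classical
  choose R _ _ het hproj ho hmem using fun p : PrimeSpectrum A => exists_open_projective N p (h p.asIdeal)
  obtain ⟨s, hs⟩ := isCompact_univ.elim_finite_subcover (fun p => Set.range (PrimeSpectrum.comap (algebraMap A (R p))))
    ho fun p _ => Set.mem_iUnion.2 ⟨p, hmem p⟩
  let c : Fin s.card → PrimeSpectrum A := fun i => (s.equivFin.symm i : s)
  let P := ∀ i, R (c i)
  haveI : ∀ i, Algebra.Etale A (R (c i)) := fun i => het _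
  haveI : ∀ i, Module.Projective (R (c i)) (R (c i) ⊗[A] N) := fun i => hproj _
  haveI : Module.Projective P (P ⊗[A] N) := projective_pi N fun i => R (c i)
  haveI : Module.Flat A P := inferInstance
  haveI : Module.FaithfullyFlat A P := Module.FaithfullyFlat.of_comap_surjective fun p => by
    obtain ⟨q, hq⟩ := Set.mem_iUnion.1 (hs (Set.mem_univ p))
    obtain ⟨hqs, y, hy⟩ := Set.mem_iUnion.1 hq
    have hc : c (s.equivFin ⟨q, hqs⟩) = q := by simp [c]
    obtain ⟨i, rfl⟩ : ∃ i, c i = q := ⟨_, hc⟩
    exact ⟨PrimeSpectrum.comap (Pi.evalRingHom (fun i => R (c i)) i) y, hy⟩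
  exact FlatMor67.projective_descent (R := A) (S := P) (M := N)

end Groth.Agent.FlatCrit65.Purity
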