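import Groth.Agent.FlatMor66.RelAssLocus
import Groth.Agent.FlatMor67.ImpurityTransfer
import Groth.Agent.FlatMor67.ProjPure
import Groth.Agent.FlatCrit65.Purity.Transfer
import Groth.Agent.S1245
import Mathlib

/-!
Over a Noetherian ring an impurity can be found on a quasi-finite algebra.
-/

set_option autoImplicit false
set_option linter.style.haveILetI false
set_option linter.unusedSectionVars false

universe u

open TensorProduct

namespace Groth.Agent.FlatCrit65.Purity

/-- In a Noetherian domain there is no prime between zero and a prime, when all the nonzero primes below it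
share a nonzero element. -/
theorem eq_of_forall_mem {R : Type u} [CommRing R] [IsDomain R] [IsNoetherianRing R] {f : R} (hf : f ≠ 0) (T : Ideal R)
    [T.IsPrime] (hall : ∀ q : Ideal R, q.IsPrime → q ≠ ⊥ → q ≤ T → f ∈ q) (q : Ideal R) [q.IsPrime] (hq0 : q ≠ ⊥)
    (hqT : q ≤ T) : q = T := by
  classical
  by_contra hne
  have hqT' : q < T := lt_of_le_of_ne hqT hne
  have hfT : f ∈ T := hall T inferInstance (fun h => hq0 (le_bot_iff.1 (h ▸ hqT))) le_rfl
  let F : Finset (Ideal R) := insert ⊥ ((Ideal.finite_minimalPrimes_of_isNoetherianRing R (Ideal.span {f})).toFinset.erase T)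
  have hsub : ¬ ((T : Set R) ⊆ ⋃ m ∈ (↑F : Set (Ideal R)), (m : Set R)) := by
    intro h
    have hp : ∀ m ∈ F, m ≠ ⊥ → m ≠ ⊥ → m.IsPrime := fun m hm h0 _ => by
      rcases Finset.mem_insert.1 hm with rfl | hm
      · exact absurd rfl h0
      · exact ((Set.Finite.mem_toFinset _).1 (Finset.mem_of_mem_erase hm)).1.1
    obtain ⟨m, hm, hTm⟩ := (Ideal.subset_union_prime (s := F) (f := fun m => m) (I := T) ⊥ ⊥ hp).1 h
    rcases Finset.mem_insert.1 hm with rfl | hm
    · exact hq0 (le_bot_iff.1 (hqT.trans hTm))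
    · obtain ⟨hmT, hm⟩ := Finset.mem_erase.1 hm
      refine hmT (le_antisymm ?_ hTm)
      exact ((Set.Finite.mem_toFinset _).1 hm).2 ⟨inferInstance, (Ideal.span_singleton_le_iff_mem T).2 hfT⟩ hTm
  rw [Set.not_subset] at hsub
  obtain ⟨y, hyT, hy⟩ := hsub
  simp only [Set.mem_iUnion, not_exists, SetLike.mem_coe] at hy
  have hy0 : y ≠ 0 := fun h => hy ⊥ (Finset.mem_insert_self _ _) (h ▸ Submodule.zero_mem _)
  obtain ⟨P, hP, hPT⟩ := Ideal.exists_minimalPrimes_le ((Ideal.span_singleton_le_iff_mem T).2 hyT)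
  haveI := hP.1.1
  have hP0 : P ≠ ⊥ := fun h => hy0 (by simpa [h] using hP.1.2 (Ideal.mem_span_singleton_self y))
  obtain ⟨m, hm, hmP⟩ := Ideal.exists_minimalPrimes_le ((Ideal.span_singleton_le_iff_mem P).2 (hall P inferInstance hP0 hPT))
  haveI := hm.1.1
  have hP1 : P.height ≤ 1 := Ideal.height_le_one_of_isPrincipal_of_mem_minimalPrimes (Ideal.span {y}) P hP
  have hm0 : (⊥ : Ideal R) < m := bot_lt_iff_ne_bot.2 fun h => hf (by
    simpa [h] using hm.1.2 (Ideal.mem_span_singleton_self f))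
  have htwo : ∀ {I J K : Ideal R} [I.IsPrime] [J.IsPrime] [K.IsPrime], I < J → J < K → K.height ≤ 1 → False := by
    intro I J K _ _ _ hIJ hJK hK
    have h1 := Ideal.height_strict_mono_of_isPrime_of_isPrime hIJ
    have h2 := Ideal.height_strict_mono_of_isPrime_of_isPrime hJK
    have h3 : J.height < 1 := lt_of_lt_of_le h2 hK
    rw [Order.lt_one_iff] at h3
    rw [h3] at h1
    exact not_lt_bot h1
  have hmP' : m = P := by
    by_contra h
    exact htwo hm0 (lt_of_le_of_ne hmP h) hP1
  subst hmP'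
  have hmT : m = T := by
    by_contra h
    exact hy m (Finset.mem_insert_of_mem (Finset.mem_erase.2 ⟨h, (Set.Finite.mem_toFinset _).2 hm⟩))
      (hP.1.2 (Ideal.mem_span_singleton_self y))
  subst hmT
  exact htwo (bot_lt_iff_ne_bot.2 hq0) hqT' hP1

variable {A B : Type u} [CommRing A] [CommRing B] [Algebra A B] [Algebra.FiniteType A B]
  {N : Type u} [AddCommGroup N] [Module B N] {p : Ideal A} [p.IsPrime]
  {A' B' N' : Type u} [CommRing A'] [CommRing B'] [Algebra A A'] [Algebra B B'] [Algebra A' B'] [Algebra A B']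
  [IsScalarTower A B B'] [IsScalarTower A A' B'] [AddCommGroup N'] [Module B' N'] [Module B N'] [IsScalarTower B B' N']
  [Module A' N'] [IsScalarTower A' B' N']

/-- No impurity has both points over the same point. -/
theorem not_isImpurity_of_liesOver (f : N →ₗ[B] N') (t' t : Ideal A') [t'.IsPrime] [t.IsPrime] (P : Ideal B') [P.IsPrime]
    [t'.LiesOver p] : ¬ FlatCA.IsImpurity A B N p A' B' N' f t' t P := by
  intro himp
  have hle : t' ≤ t := himp.2.2.1
  have hto : t.LiesOver p := himp.2.2.2.1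
  let C := A' ⧸ t'
  let tC : Ideal C := t.map (Ideal.Quotient.mk t')
  haveI : tC.IsPrime := Ideal.map_isPrime_of_surjective Ideal.Quotient.mk_surjective (by rwa [Ideal.mk_ker])
  have htC : tC.comap (Ideal.Quotient.mk t') = t := by
    rw [Ideal.comap_map_of_surjective _ Ideal.Quotient.mk_surjective, ← RingHom.ker_eq_comap_bot, Ideal.mk_ker,
      sup_eq_left.2 hle]
  let L := Localization.AtPrime tC
  haveI : IsDomain L := IsLocalization.isDomain_localization (Ideal.primeCompl_le_nonZeroDivisors tC)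
  have hAL : ∀ r : A, algebraMap A L r = algebraMap C L (Ideal.Quotient.mk t' (algebraMap A A' r)) := fun r => by
    rw [IsScalarTower.algebraMap_apply A C L, IsScalarTower.algebraMap_apply A A' C]
    rfl
  let χ : p.ResidueField →+* L := Ideal.ResidueField.lift p (algebraMap A L)
    (fun r hr => by
      rw [RingHom.mem_ker, hAL, show Ideal.Quotient.mk t' (algebraMap A A' r) = 0 from
        Ideal.Quotient.eq_zero_iff_mem.2 ((SetLike.ext_iff.1 (Ideal.over_def t' p) r).1 hr), map_zero])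
    (fun r hr => by
      rw [Submonoid.mem_comap, IsUnit.mem_submonoid_iff, hAL]
      refine IsLocalization.map_units L (⟨_, fun h => hr ?_⟩ : tC.primeCompl)
      exact (SetLike.ext_iff.1 hto.over r).2 (htC.le h))
  letI : Algebra p.ResidueField L := χ.toAlgebra
  haveI : IsScalarTower A p.ResidueField L := IsScalarTower.of_algebraMap_eq fun r =>
    (Ideal.ResidueField.lift_algebraMap _ _ _ _ r).symm
  let u : Ideal L := IsLocalRing.maximalIdeal L
  haveI : (⊥ : Ideal L).LiesOver t' := ⟨by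
    rw [Ideal.under, IsScalarTower.algebraMap_eq A' C L, ← Ideal.comap_comap, ← RingHom.ker_eq_comap_bot (algebraMap C L),
      (RingHom.injective_iff_ker_eq_bot _).1 (IsLocalization.injective L (Ideal.primeCompl_le_nonZeroDivisors tC))]
    exact (Ideal.mk_ker (I := t')).symm.trans (RingHom.ker_eq_comap_bot _)⟩
  haveI : u.LiesOver t := ⟨by
    rw [Ideal.under, IsScalarTower.algebraMap_eq A' C L, ← Ideal.comap_comap]
    show t = Ideal.comap (algebraMap A' C) ((IsLocalRing.maximalIdeal L).under C)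
    rw [Localization.AtPrime.under_maximalIdeal]
    exact htC.symm⟩
  obtain ⟨A₂, B₂, N₂, _, _, _, _, _, _, _, _, _, _, _, _, _, _, g₂, s', s, _, _, P₂, _, himp₂, iK, iT⟩ :=
    Groth.Agent.FlatMor67.PurePush.isImpurity_transfer N p f t' t P himp L ⊥ u bot_le
      (fun H _ _ _ => ∃ (_ : Algebra p.ResidueField H), IsScalarTower A p.ResidueField H)
      ⟨inferInstance, inferInstance⟩
  letI := iK
  haveI := iT
  letI : Algebra p.ResidueField (B ⊗[A] p.ResidueField) := Algebra.TensorProduct.rightAlgebra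
  haveI : (⊥ : Ideal p.ResidueField).LiesOver p := ⟨by
    rw [Ideal.under, ← RingHom.ker_eq_comap_bot, Ideal.ker_algebraMap_residueField]⟩
  haveI hs : s.LiesOver (⊥ : Ideal p.ResidueField) := ⟨((Ideal.eq_bot_or_top _).resolve_right
    (Ideal.IsPrime.ne_top (Ideal.comap_isPrime (algebraMap p.ResidueField A₂) s))).symm⟩
  obtain ⟨A₃, B₃, N₃, _, _, _, _, _, _, _, _, _, _, _, _, _, _, g₃, r', r, _, _, P₃, _, himp₃, -⟩ :=
    hasImpurity_lift (A' := p.ResidueField) (B' := B ⊗[A] p.ResidueField) (TensorProduct.mk B (B ⊗[A] p.ResidueField) N 1)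
      (TensorProduct.isBaseChange B N _) ⊥ g₂ s' s P₂ himp₂ hs (Q := fun _ _ _ _ => True) trivial
  haveI : SMulCommClass B p.ResidueField (B ⊗[A] p.ResidueField) := ⟨fun s r x => by
    rw [Algebra.smul_def r x, Algebra.smul_def r (s • x)]
    exact (mul_smul_comm s _ x).symm⟩
  haveI : SMulCommClass p.ResidueField B (B ⊗[A] p.ResidueField) := SMulCommClass.symm _ _ _
  exact FlatMor67.ProjPure.isUnivPure_of_projective (A := p.ResidueField) (B := B ⊗[A] p.ResidueField)
    ((B ⊗[A] p.ResidueField) ⊗[B] N) ⊥ A₃ B₃ N₃ g₃ r' r P₃ himp₃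

/-- Over a Noetherian ring an impurity gives one on a quasi-finite algebra. -/
theorem hasImpurity_quasiFinite [IsNoetherianRing A] [Module.Finite B N]
    (h : FlatCA.HasImpurity A B N p (fun _ _ _ _ => True)) :
    FlatCA.HasImpurity A B N p (fun A' _ _ t => ∃ _ : t.IsPrime, Algebra.FiniteType A A' ∧ Algebra.QuasiFiniteAt A t) := by
  classical
  obtain ⟨A', B', N', _, _, _, _, _, _, _, _, _, _, _, _, _, _, f, t', t, _, _, P, _, himp, hfp, hmax⟩ :=
    S1245.result N p h
  haveI := hfp
  obtain ⟨hpush, hf, hle, hto, hPo, hass, hmiss⟩ := himp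
  haveI := hto; haveI := hPo; haveI := hpush
  haveI : Algebra.IsPushout A A' B B' := hpush.symm
  haveI : IsNoetherianRing A' := Algebra.FiniteType.isNoetherianRing A A'
  haveI : Algebra.FiniteType A' B' := Algebra.FiniteType.of_surjective (Algebra.IsPushout.equiv A A' B B').toAlgHom
    (Algebra.IsPushout.equiv A A' B B').surjective
  haveI : IsNoetherianRing B' := Algebra.FiniteType.isNoetherianRing A' B'
  haveI : Algebra.FinitePresentation A' B' := (Algebra.FinitePresentation.of_finiteType).1 inferInstance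
  haveI : Module.Finite B' N' := Module.Finite.equiv hf.equiv
  haveI : Module.FinitePresentation B' N' := Module.finitePresentation_of_finite B' N'
  -- an element of `p` outside `t'`
  obtain ⟨r, hrp, hr⟩ : ∃ r ∈ p, algebraMap A A' r ∉ t' := by
    by_contra hne
    push Not at hne
    have : t'.LiesOver p := ⟨le_antisymm hne ((Ideal.comap_mono hle).trans hto.over.ge)⟩
    exact not_isImpurity_of_liesOver f t' t P ⟨hpush, hf, hle, hto, hPo, hass, hmiss⟩
  obtain ⟨G, hG⟩ := P.fg_of_isNoetherianRing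
  let g : G → B' := Subtype.val
  let E := FlatMor66.RelAssLocus.injLocus (FlatMor66.RelAssLocus.fam (A := A') g N')
  have hgP : ∀ (Q : Ideal B'), (∀ i, g i ∈ Q) ↔ P ≤ Q := fun Q => by
    rw [← hG, Ideal.span_le]
    exact ⟨fun h x hx => h ⟨x, hx⟩, fun h i => h i.2⟩
  obtain ⟨D, _, φ, hφ⟩ := PrimeSpectrum.exists_range_eq_of_isConstructible
    (FlatMor66.RelAssLocus.isConstructible_injLocus (A := A') (M := N') g : Topology.IsConstructible E)
  have ht'E : (⟨t', inferInstance⟩ : PrimeSpectrum A') ∉ E := fun hmem =>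
    (FlatMor66.RelAssLocus.mem_injLocus_fam_iff g ⟨t', inferInstance⟩).1 hmem _ hass
      fun i => Ideal.mem_map_of_mem _ ((hgP P).2 le_rfl i)
  obtain ⟨a, ha, haD⟩ : ∃ a, a ∉ t' ∧ φ a ∈ t'.map φ := by
    by_contra hne
    push Not at hne
    obtain ⟨Q, hQ, hQle, hQd⟩ := Ideal.exists_le_prime_disjoint (t'.map φ) (t'.primeCompl.map (φ : A' →* D))
      (Set.disjoint_left.2 fun x hx ⟨a, ha, hax⟩ => hne a ha (hax ▸ hx))
    refine ht'E (hφ.le ⟨⟨Q, hQ⟩, PrimeSpectrum.ext (le_antisymm (fun x hx => ?_) (Ideal.map_le_iff_le_comap.1 hQle))⟩)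
    by_contra hxt
    exact Set.disjoint_left.1 hQd hx ⟨x, hxt, rfl⟩
  let c := a * algebraMap A A' r
  have hc : c ∉ t' := fun h => ((inferInstance : t'.IsPrime).mem_or_mem h).elim ha hr
  let 𝒮 : Set (Ideal A') := {s | s.IsPrime ∧ t' ≤ s ∧ s ≤ t ∧ c ∉ s}
  obtain ⟨s, ⟨hsp, hts, hst, hcs⟩, hsmax⟩ : ∃ s : Ideal A', s ∈ 𝒮 ∧ ∀ I ∈ 𝒮, ¬ s < I := set_has_maximal_iff_noetherian.2 ‹IsNoetherianRing A'› 𝒮
    ⟨t', inferInstance, le_rfl, hle, hc⟩
  haveI := hsp
  have hsE : (⟨s, hsp⟩ : PrimeSpectrum A') ∉ E := by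
    intro hmem
    obtain ⟨x, hx⟩ := hφ.ge hmem
    have hx' : x.asIdeal.comap φ = s := congrArg PrimeSpectrum.asIdeal hx
    refine hcs (s.mul_mem_right _ (hx'.le ?_))
    exact (Ideal.map_le_iff_le_comap.2 (hts.trans hx'.ge)) haD
  obtain ⟨Q₁, hQ₁, hQ₁g⟩ : ∃ Q₁ ∈ associatedPrimes (s.Fiber B') (FlatCA.fiberMod s B' N'),
      ∀ i, FlatMor66.RelAssAlg.inc s (g i) ∈ Q₁ := by
    by_contra hne
    push Not at hne
    exact hsE ((FlatMor66.RelAssLocus.mem_injLocus_fam_iff g ⟨s, hsp⟩).2 fun Q hQ hall =>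
      (hne Q hQ).elim fun i hi => hi (hall i))
  haveI := hQ₁.isPrime
  let Q : Ideal B' := Q₁.comap (Algebra.TensorProduct.includeRight (R := A') (A := s.ResidueField) (B := B')).toRingHom
  haveI : Q.IsPrime := Ideal.comap_isPrime _ _
  have hQo : Q.LiesOver s := ((PrimeSpectrum.primesOverOrderIsoFiber A' B' s).symm ⟨Q₁, inferInstance⟩).2.2
  have hPQ : P ≤ Q := (hgP Q).1 hQ₁g
  have himp' : FlatCA.IsImpurity A B N p A' B' N' f s t Q :=
    ⟨hpush, hf, hst, hto, hQo, (FlatMor67.PurePush.fiberIdeal_comap s Q₁).symm ▸ hQ₁,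
      fun P' hP' hle' => hmiss P' (hPQ.trans hle')⟩
  -- the quasi-finite algebra
  let H := A' ⧸ s
  let u : Ideal H := t.map (Ideal.Quotient.mk s)
  haveI : u.IsPrime := Ideal.map_isPrime_of_surjective Ideal.Quotient.mk_surjective (by rwa [Ideal.mk_ker])
  have huc : u.comap (Ideal.Quotient.mk s) = t := by
    rw [Ideal.comap_map_of_surjective _ Ideal.Quotient.mk_surjective, ← RingHom.ker_eq_comap_bot, Ideal.mk_ker,
      sup_eq_left.2 hst]
  haveI : u.LiesOver t := ⟨huc.symm⟩
  haveI : (⊥ : Ideal H).LiesOver s := ⟨(Ideal.mk_ker (I := s)).symm.trans (RingHom.ker_eq_comap_bot _)⟩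
  haveI : Algebra.FiniteType A H := Algebra.FiniteType.of_surjective (Ideal.Quotient.mkₐ A s) Ideal.Quotient.mk_surjective
  refine FlatMor67.PurePush.isImpurity_transfer N p f s t Q himp' H ⊥ u bot_le _ ⟨inferInstance, inferInstance, ?_⟩
  haveI : u.LiesOver p := Ideal.LiesOver.trans u t p
  let O := PrimeSpectrum.primesOverOrderIsoFiber A H p
  let x : PrimeSpectrum (p.Fiber H) := O ⟨u, inferInstance, inferInstance⟩
  have huniq : ∀ q : p.primesOver H, (q.1 ≤ u ∨ u ≤ q.1) → q.1 = u := by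
    rintro ⟨q, hq, hqo⟩ hq'
    show q = u
    have := hqo
    let q' := q.comap (Ideal.Quotient.mk s)
    haveI : q'.IsPrime := Ideal.comap_isPrime _ _
    haveI : q'.LiesOver p := ⟨by
      rw [Ideal.under, Ideal.comap_comap]
      exact hqo.over⟩
    have hsq : s ≤ q' := (Ideal.mk_ker (I := s)).symm.le.trans (Ideal.ker_le_comap _)
    suffices heq : q' = t by
      rw [← Ideal.map_comap_of_surjective _ Ideal.Quotient.mk_surjective q]
      exact congrArg (Ideal.map (Ideal.Quotient.mk s)) heq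
    rcases hq' with hqu | huq
    · have hq't : q' ≤ t := (Ideal.comap_mono hqu).trans huc.le
      have hne : q ≠ ⊥ := fun h0 => hcs (s.mul_mem_left a (by
        have h1 : algebraMap A A' r ∈ q' := (SetLike.ext_iff.1 (Ideal.over_def q' p) r).1 hrp
        rw [show q' = Ideal.comap (Ideal.Quotient.mk s) q from rfl, h0, Ideal.mem_comap, Ideal.mem_bot] at h1
        exact Ideal.Quotient.eq_zero_iff_mem.1 h1))
      have hf0 : Ideal.Quotient.mk s c ≠ 0 := fun h0 => hcs (Ideal.Quotient.eq_zero_iff_mem.1 h0)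
      have := eq_of_forall_mem hf0 u (fun w hw hw0 hwu => ?_) q hne hqu
      · show q.comap (Ideal.Quotient.mk s) = t
        rw [this, huc]
      · by_contra hcw
        refine hsmax (w.comap (Ideal.Quotient.mk s)) ⟨Ideal.comap_isPrime _ _, ?_, (Ideal.comap_mono hwu).trans huc.le, hcw⟩
          (lt_of_le_of_ne ((Ideal.mk_ker (I := s)).symm.le.trans (Ideal.ker_le_comap _)) fun heq => hw0 ?_)
        · exact hts.trans ((Ideal.mk_ker (I := s)).symm.le.trans (Ideal.ker_le_comap _))
        · rw [← Ideal.map_comap_of_surjective _ Ideal.Quotient.mk_surjective w, ← heq, Ideal.map_quotient_self]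
    · have htq : t ≤ q' := huc.ge.trans (Ideal.comap_mono huq)
      have hne : FlatCA.fiberIdeal p q' ≠ ⊤ := fun htop => Ideal.IsPrime.ne_top ‹q'.IsPrime› (by
        rw [← FlatMor67.PurePush.comap_fiberIdeal p q', htop, Ideal.comap_top])
      have h2 : FlatCA.fiberIdeal p t = FlatCA.fiberIdeal p q' := hmax.eq_of_le hne (Ideal.map_mono htq)
      rw [← FlatMor67.PurePush.comap_fiberIdeal p q', ← h2, FlatMor67.PurePush.comap_fiberIdeal p t]
  haveI : IsNoetherianRing (p.Fiber H) := Algebra.FiniteType.isNoetherianRing p.ResidueField _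
  haveI : IsJacobsonRing (p.Fiber H) := isJacobsonRing_of_finiteType (A := p.ResidueField)
  have hopen : IsOpen ({x} : Set (PrimeSpectrum (p.Fiber H))) := by
    refine ((PrimeSpectrum.isOpen_singleton_tfae_of_isNoetherian_of_isJacobsonRing x).out 0 2 rfl rfl).2 ⟨?_, ?_⟩
    · rw [PrimeSpectrum.isClosed_singleton_iff_isMaximal, ← PrimeSpectrum.isMax_iff]
      intro y hy
      have h1 : (O.symm x).1 ≤ (O.symm y).1 := O.symm.monotone hy
      have h2 : O.symm y = O.symm x := Subtype.ext (by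
        simpa [x] using huniq (O.symm y) (Or.inr (by simpa [x] using h1)))
      exact (O.symm.injective h2).le
    · rw [PrimeSpectrum.stableUnderGeneralization_singleton, ← PrimeSpectrum.isMin_iff]
      intro y hy
      have h1 : (O.symm y).1 ≤ (O.symm x).1 := O.symm.monotone hy
      have h2 : O.symm y = O.symm x := Subtype.ext (by
        simpa [x] using huniq (O.symm y) (Or.inl (by simpa [x] using h1)))
      exact (O.symm.injective h2).ge
  haveI : Algebra.QuasiFiniteAt p.ResidueField x.asIdeal := Algebra.QuasiFiniteAt.of_isOpen_singleton x hopen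
  exact Algebra.QuasiFiniteAt.of_quasiFiniteAt_residueField p u x.asIdeal
    (congrArg Subtype.val (O.symm_apply_apply ⟨u, inferInstance, inferInstance⟩))

end Groth.Agent.FlatCrit65.Purity
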