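import Groth.Agent.FlatCrit65.Purity.Ass
import Groth.Agent.FlatCrit65.Purity.Transfer
import Groth.Agent.RG29.ElemSetup
import Mathlib.RingTheory.Etale.QuasiFinite

/-!
# Impurities with quasi-finite base change
-/

set_option autoImplicit false
set_option linter.style.haveILetI false

universe u

noncomputable section

open TensorProduct

attribute [local instance] Algebra.TensorProduct.rightAlgebra

namespace Groth.Agent.FlatCrit65.Purity

variable {A B : Type u} [CommRing A] [CommRing B] [Algebra A B] [Algebra.FiniteType A B]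
  {N : Type u} [AddCommGroup N] [Module B N] {p : Ideal A} [p.IsPrime]

/-- An impurity which becomes finite with one point over the base gives an impurity on the base. -/
theorem hasImpurity_of_finite {A₁ : Type u} [CommRing A₁] [Algebra A A₁] (p₁ : Ideal A₁) [p₁.IsPrime] [p₁.LiesOver p]
    {Q : ∀ (H : Type u) [CommRing H] [Algebra A H], Ideal H → Prop} (hQ : Q A₁ p₁)
    (h : FlatCA.HasImpurity A₁ (A₁ ⊗[A] B) ((A₁ ⊗[A] B) ⊗[B] N) p₁
      fun H _ _ w => Module.Finite A₁ H ∧ ∀ w'' : Ideal H, w''.IsPrime → w''.LiesOver p₁ → w'' = w) :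
    FlatCA.HasImpurity A B N p Q := by
  obtain ⟨H, BH, NH, _, _, _, _, _, _, _, _, _, _, _, _, _, _, g, s', s, _, _, P, _,
    ⟨hpush, hg, hle, hso, hPo, hass, hmiss⟩, hfin, huniq⟩ := h
  haveI := hpush
  haveI := hso
  haveI := hPo
  haveI := hfin
  haveI : Algebra.IsPushout A₁ H (A₁ ⊗[A] B) BH := hpush.symm
  haveI : Module.Finite (A₁ ⊗[A] B) BH :=
    Module.Finite.equiv (Algebra.IsPushout.equiv A₁ (A₁ ⊗[A] B) H BH).toLinearEquiv
  haveI : Algebra.IsIntegral (A₁ ⊗[A] B) BH := Algebra.IsIntegral.of_finite _ _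
  let s₀ := s'.comap (algebraMap A₁ H)
  haveI : s'.LiesOver s₀ := ⟨rfl⟩
  obtain ⟨hPo₀, hass₀⟩ := ass_down (R := A₁) (R' := H) g hg s' s₀ P hass
  haveI : Algebra.IsPushout A B A₁ (A₁ ⊗[A] B) := TensorProduct.isPushout'
  refine ⟨A₁, A₁ ⊗[A] B, (A₁ ⊗[A] B) ⊗[B] N, inferInstance, inferInstance, inferInstance, inferInstance,
    inferInstance, inferInstance, inferInstance, inferInstance, inferInstance, inferInstance, inferInstance,
    inferInstance, inferInstance, inferInstance, TensorProduct.mk B _ N 1, s₀, p₁, inferInstance, inferInstance,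
    P.comap (algebraMap (A₁ ⊗[A] B) BH), Ideal.comap_isPrime _ _,
    ⟨inferInstance, TensorProduct.isBaseChange B N _, (Ideal.comap_mono hle).trans (Ideal.over_def s p₁).ge,
      inferInstance, hPo₀, hass₀, fun P₀ _ hP₀ hP₀o => ?_⟩, hQ⟩
  obtain ⟨Q', hQ'le, hQ'p, hQ'P⟩ := Ideal.exists_ideal_over_prime_of_isIntegral P₀ P hP₀
  have hw : (Q'.comap (algebraMap H BH)).LiesOver p₁ := ⟨by
    rw [hP₀o.over, Ideal.under, Ideal.under, ← hQ'P, Ideal.comap_comap, Ideal.comap_comap,
      ← IsScalarTower.algebraMap_eq, ← IsScalarTower.algebraMap_eq]⟩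
  exact hmiss Q' hQ'le ⟨(huniq _ inferInstance hw).symm⟩

/-- An impurity with quasi-finite base change gives one on an elementary etale neighbourhood. -/
theorem exists_etaleNhd_of_quasiFinite
    (h : FlatCA.HasImpurity A B N p
      fun A' _ _ t => ∃ _ : t.IsPrime, Algebra.FiniteType A A' ∧ Algebra.QuasiFiniteAt A t) :
    FlatCA.HasImpurity A B N p (fun A' _ _ t => ∃ _ : t.IsPrime, FlatCA.IsEtaleNhd A A' p t) := by
  obtain ⟨A', B', N', _, _, _, _, _, _, _, _, _, _, _, _, _, _, f, t', t, _, _, P, _, himp, _, hft, hqf⟩ := h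
  haveI := hft
  haveI := hqf
  have hto : t.LiesOver p := himp.2.2.2.1
  haveI := hto
  obtain ⟨A₁, _, _, _, p₁, _, hp₁, e, _, u₀, _, hu₀p, hu₀t, heu₀, hbij, hfin, huniq⟩ :=
    Algebra.exists_etale_isIdempotentElem_forall_liesOver_eq p t
  let H := A₁ ⊗[A] A'
  let C := Localization.Away e
  haveI : Algebra.Etale A' H := RingHom.etale_algebraMap.1 (Groth.Agent.RG29.etale_includeRight A A₁ A')
  haveI : IsScalarTower A' H C := inferInstance
  haveI : Module.Flat H C := IsLocalization.flat C (Submonoid.powers e)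
  haveI : Module.Flat A' C := Module.Flat.trans A' H C
  haveI : IsScalarTower A A' C := IsScalarTower.of_algebraMap_eq fun a => by
    rw [IsScalarTower.algebraMap_apply A' H C, IsScalarTower.algebraMap_apply A H C]
    congr 1
    exact ((Algebra.TensorProduct.includeRight : A' →ₐ[A] H).commutes a).symm
  have hd : Disjoint (Submonoid.powers e : Set H) (u₀ : Set H) :=
    (Ideal.disjoint_powers_iff_notMem_of_isPrime _).2 heu₀
  let u := u₀.map (algebraMap H C)
  haveI : u.IsPrime := IsLocalization.isPrime_of_isPrime_disjoint (Submonoid.powers e) C u₀ inferInstance hd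
  have hcu : u.comap (algebraMap H C) = u₀ :=
    IsLocalization.under_map_of_isPrime_disjoint (Submonoid.powers e) C inferInstance hd
  haveI : u.LiesOver t := ⟨by
    rw [Ideal.under, IsScalarTower.algebraMap_eq A' H C, ← Ideal.comap_comap, hcu]
    exact hu₀t.symm⟩
  have hu₁ : u.LiesOver p₁ := ⟨by
    rw [Ideal.under, IsScalarTower.algebraMap_eq A₁ H C, ← Ideal.comap_comap, hcu]
    exact hu₀p.over⟩
  obtain ⟨u', hu'le, hu'p, hu'o⟩ := Ideal.exists_ideal_le_liesOver_of_le u (p := t') (q := t) himp.2.2.1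
  have hun : ∀ w : Ideal C, w.IsPrime → w.LiesOver p₁ → w = u := fun w hwp hwo => by
    haveI := hwp
    have hne : e ∉ w.comap (algebraMap H C) := fun hmem =>
      hwp.ne_top (Ideal.eq_top_of_isUnit_mem _ hmem (IsLocalization.Away.algebraMap_isUnit e))
    have := huniq (w.comap (algebraMap H C)) inferInstance ⟨by
      rw [Ideal.under, Ideal.comap_comap, ← IsScalarTower.algebraMap_eq]; exact hwo.over⟩ hne
    rw [← IsLocalization.map_under (Submonoid.powers e) C w, Ideal.under, this]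
  obtain ⟨A₂, B₂, N₂, _, _, _, _, _, _, _, _, _, _, _, _, _, _, g₂, s', s, _, _, P₂, _, himp₂, iA, iT, hfin₂, hs₂, hun₂⟩ :=
    Groth.Agent.FlatMor67.PurePush.isImpurity_transfer N p f t' t P himp C u' u hu'le
      (fun H _ _ w => ∃ (_ : Algebra A₁ H) (_ : IsScalarTower A A₁ H),
        Module.Finite A₁ H ∧ w.LiesOver p₁ ∧ ∀ w'' : Ideal H, w''.IsPrime → w''.LiesOver p₁ → w'' = w)
      ⟨inferInstance, inferInstance, hfin, hu₁, hun⟩
  haveI : Algebra.IsPushout A B A₁ (A₁ ⊗[A] B) := TensorProduct.isPushout'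
  haveI := hp₁
  exact hasImpurity_of_finite p₁ (Q := fun A' _ _ t => ∃ _ : t.IsPrime, FlatCA.IsEtaleNhd A A' p t)
    ⟨inferInstance, inferInstance, hp₁, hbij⟩
    (hasImpurity_lift (TensorProduct.mk B (A₁ ⊗[A] B) N 1) (TensorProduct.isBaseChange B N _) p₁ g₂ s' s P₂ himp₂
      hs₂ ⟨hfin₂, hun₂⟩)

end Groth.Agent.FlatCrit65.Purity
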